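import Cfsg.Agent.H461.Cov.CoTwoEnd
import Cfsg.Agent.H278.Cov.Defs

/-!
# S2499: `Co2` is not the union of the conjugates of two proper subgroups (helper461)

Let `H`, `K` be proper subgroups such that every element of `Co2` is conjugate to an element of `H` or of `K`; one of
them, `H` say, has order divisible by 23. It has no elements of orders 28, 30 and 9, and its elements of order five
have fixed spaces of dimension 8 on the Leech lattice. So `K` has elements of orders 28 and 9, and elements of order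
five with fixed spaces of dimensions 4 and 8; its order is divisible by 25. There is no such subgroup.
-/

set_option autoImplicit false

namespace Cfsg.Agent.H461.Cov.CoTwo

open Subgroup Cfsg
open Cfsg.Agent.OrdDiv Cfsg.Agent.H257.El
open Cfsg.Agent.H149.Sp (fd)
open Cfsg.Agent.H149.Sp.CopCo
open Cfsg.Agent.H149.Der
open Cfsg.Agent.H278.Cov

theorem ordC {G : Type*} [Group G] (a z : G) : orderOf (a * z * a⁻¹) = orderOf z :=
  orderOf_injective (MulAut.conj a).toMonoidHom (MulAut.conj a).injective z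

theorem main (tab : OrderTable.{0}) (known : Known.{0}) {H K : Subgroup Spor.Co2} (hH : H ≠ ⊤) (hK : K ≠ ⊤)
    (h23 : 23 ∣ Nat.card H) : ∃ x : Spor.Co2, Av x H ∧ Av x K := by
  have hfin := finite_co2
  by_contra hcon
  have hcon : ∀ x : Spor.Co2, Av x H → ∃ g : Spor.Co2, g * x * g⁻¹ ∈ K := by
    intro x h1
    by_contra h2
    push Not at h2
    exact hcon ⟨x, h1, h2⟩
  have ho : ∀ g : Spor.Co2, orderOf (f2 g) = orderOf g := orderOf_injective f2 f2_inj
  obtain ⟨a, ha⟩ := H870.Der.CoTwo.exists28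
  obtain ⟨b, hb⟩ := H870.Der.CoTwo.exists9_18.1
  obtain ⟨c, hc, hc8⟩ := exists_30
  obtain ⟨y, hy, hy4⟩ := exists_four f2_inj leechU_ne f2_fix (by rw [H870.Der.CoTwo.card_co2]; norm_num)
  obtain ⟨a', ha'⟩ := hcon a fun g hg => no_28 tab known hH h23 _ hg (by rw [ordC, ha])
  obtain ⟨b', hb'⟩ := hcon b fun g hg => no_9 tab known hH h23 _ hg (by rw [ordC, hb])
  obtain ⟨c', hc'⟩ := hcon c fun g hg => no_30 tab known hH h23 _ hg (by rw [ordC, hc])
  obtain ⟨y', hy'⟩ := hcon y fun g hg => by
    have h1 := fd_five_23 tab known hH h23 _ hg (by rw [ordC, hy])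
    rw [map_mul, map_mul, map_inv, fd_conj, hy4] at h1
    norm_num at h1
  have h25 : 25 ∣ Nat.card K := by
    by_contra h25
    have h5 : orderOf (c ^ 6) = 5 := by rw [orderOf_pow_of_dvd (by norm_num) (by rw [hc]; norm_num), hc]
    rcases H547.Der.miss_or (p := 5) (by norm_num) (by norm_num; exact h25) h5 hy (fun g hg => by
      have h1 : f2 (g * c ^ 6 * g⁻¹) ∈ zpowers (f2 y) := by
        obtain ⟨k, hk⟩ := mem_zpowers_iff.1 hg
        exact mem_zpowers_iff.2 ⟨k, by rw [← hk, map_zpow]⟩
      have h2 := fd_of_zpowers (p := 5) (by norm_num) ((ho y).trans hy) ((ho _).trans (by rw [ordC, h5])) h1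
      rw [map_mul f2 (g * c ^ 6), map_mul, map_inv, fd_conj, hc8, hy4] at h2
      norm_num at h2) with h | h
    · refine h c' ?_
      rw [← conj_pow]
      exact pow_mem hc' 6
    · exact h y' hy'
  exact false_of_28 tab known hK h25 ha' (by rw [ordC, ha]) hb' (by rw [ordC, hb])

end Cfsg.Agent.H461.Cov.CoTwo

namespace Cfsg.Agent.H461.Cov

open Cfsg Cfsg.Agent.H278.Cov

theorem noTwo_co2_model (tab : Cfsg.Agent.OrdDiv.OrderTable.{0}) (known : Cfsg.Agent.H257.El.Known.{0}) :
    NoTwo Spor.Co2 := by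
  intro H K hH hK
  by_cases h1 : 23 ∣ Nat.card H
  · exact CoTwo.main tab known hH hK h1
  · by_cases h2 : 23 ∣ Nat.card K
    · obtain ⟨x, hx, hy⟩ := CoTwo.main tab known hK hH h2
      exact ⟨x, hy, hx⟩
    · have hfin := H149.Sp.CopCo.finite_co2
      have : Fact (Nat.Prime 23) := ⟨by norm_num⟩
      obtain ⟨z, hz⟩ := exists_prime_orderOf_dvd_card' (G := Spor.Co2) 23
        (by rw [H870.Der.CoTwo.card_co2]; norm_num)
      have key : ∀ L : Subgroup Spor.Co2, ¬ 23 ∣ Nat.card L → Av z L := by
        intro L hL g hg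
        apply hL
        have h3 := Subgroup.orderOf_dvd_natCard L hg
        rwa [CoTwo.ordC, hz] at h3
      exact ⟨z, key H h1, key K h2⟩

/-- **the Conway group `Co2` is not the union of the conjugates of two proper subgroups** -/
theorem noTwo_co2 (tab : Cfsg.Agent.OrdDiv.OrderTable.{0}) (known : Cfsg.Agent.H257.El.Known.{0}) {T : Type} [Group T]
    [Finite T] (h : Spor.IsoCo2 T) : NoTwo T := by
  obtain ⟨e⟩ := h
  exact (noTwo_co2_model tab known).congr e.symm

end Cfsg.Agent.H461.Cov
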