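import Cfsg.Agent.H461.Cov.HSTop
import Cfsg.Agent.HN.AutHS

/-!
# S2499, HS: the subgroups of order divisible by 77 fix one of the 100 points (helper461)
-/

set_option autoImplicit false

namespace Cfsg.Agent.H461.Cov.HS

open Subgroup Cfsg Equiv
open Cfsg.Agent.OrdDiv Cfsg.Agent.H257.El
open Cfsg.Agent.HN.HS100 (Q)

theorem isoQ : Spor.IsoHS ↥Q := Cfsg.Agent.HN.AutHS.nonempty_Q.1

theorem fixes_point (tab : OrderTable.{0}) (known : Known.{0}) {M : Subgroup ↥Q} (hM : M ≠ ⊤) (h11 : 11 ∣ Nat.card M)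
    (h7 : 7 ∣ Nat.card M) : ∃ i : Fin 100, ∀ m ∈ M, (m : Perm (Fin 100)) i = i := by
  obtain ⟨hc, hiso⟩ := m22_of tab known isoQ hM h11 h7
  have hfin : Finite ↥Q := Cfsg.Agent.H966.Der.HS.finite isoQ
  have : Fact (Nat.Prime 11) := ⟨by norm_num⟩
  obtain ⟨x, hx⟩ := exists_prime_orderOf_dvd_card' (G := M) 11 h11
  have hP : IsPGroup 11 (zpowers x) := IsPGroup.of_card (n := 1) (by rw [Nat.card_zpowers, hx, pow_one])
  obtain ⟨i, hi⟩ := hP.nonempty_fixed_point_of_prime_not_dvd_card (Fin 100) (by norm_num)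
  have hxi : x • i = i := hi ⟨x, mem_zpowers x⟩
  set S : Subgroup ↥M := MulAction.stabilizer ↥M i with hS
  have hidx : S.index ≤ 100 := by
    rw [hS, MulAction.index_stabilizer]
    have h1 := Set.ncard_le_card (MulAction.orbit ↥M i)
    simpa using h1
  have hmul := S.card_mul_index
  rw [hc] at hmul
  have h11S : 11 ∣ Nat.card S := by
    have h1 : x ∈ S := hxi
    have h2 := Subgroup.orderOf_dvd_natCard S h1
    rwa [hx] at h2
  have hcS : Nat.card (S.map M.subtype) = Nat.card S := Subgroup.card_map_of_injective M.subtype_injective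
  have hne : S.map M.subtype ≠ ⊤ := by
    intro h
    apply hM
    rw [eq_top_iff, ← h]
    rintro _ ⟨m, -, rfl⟩
    exact m.2
  by_cases h7S : 7 ∣ Nat.card S
  · have h1 := (m22_of tab known isoQ hne (by rw [hcS]; exact h11S) (by rw [hcS]; exact h7S)).1
    rw [hcS] at h1
    have h2 : S = ⊤ := Subgroup.eq_top_of_card_eq S (by rw [h1, hc])
    refine ⟨i, fun m hm => ?_⟩
    have h3 : (⟨m, hm⟩ : M) ∈ S := by rw [h2]; trivial
    exact h3
  · exfalso
    rcases (no_seven tab known isoQ hne (by rw [hcS]; exact h11S) (by rw [hcS]; exact h7S)).2 with h1 | h1 | h1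
    · rw [hcS] at h1
      have h2 := Nat.le_of_dvd (by norm_num) h1
      have h3 : Nat.card S * S.index ≤ 110 * 100 := Nat.mul_le_mul h2 hidx
      omega
    · rw [hcS] at h1
      rw [h1] at hmul
      omega
    · rw [hcS] at h1
      exact m22_no_7920 hiso S h1

end Cfsg.Agent.H461.Cov.HS
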