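import Cfsg.Agent.H461.Cov.HSKF
import Cfsg.Agent.H461.Cov.HSPt
import Cfsg.Agent.H547.Der.FourRow

/-!
# S2499: the Higman–Sims group (helper461)

`noTwo_hs` : the Higman–Sims group is not the union of the conjugates of two proper subgroups.
-/

set_option autoImplicit false
set_option maxRecDepth 100000

namespace Cfsg.Agent.H461.Cov.HS

open Subgroup Equiv Cfsg
open Cfsg.Agent.SporadicA.PermTab
open Cfsg.Agent.HN.HS100 (Q adjA Q_le)
open Cfsg.Agent.H278.Cov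

/-! ### the three classes of subgroups of order 5 -/

/-- the element of order 5 of the class `5B` -/
noncomputable def gv : Perm (Fin 100) := gy ^ 3
/-- the element of order 5 of the class `5A` -/
noncomputable def ge : Perm (Fin 100) := (ga * gb ^ 8 * ga * gb ^ 11) ^ 2
/-- the element of order 5 of the class `5C` -/
noncomputable def gc : Perm (Fin 100) := gb ^ 10 * ga * gb ^ 10 * ga * gb * ga

theorem gv_mem : gv ∈ Q := Q.pow_mem gy_mem 3
theorem ge_mem : ge ∈ Q :=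
  Q.pow_mem (Q.mul_mem (Q.mul_mem (Q.mul_mem ga_mem (Q.pow_mem gb_mem 8)) ga_mem) (Q.pow_mem gb_mem 11)) 2
theorem gc_mem : gc ∈ Q :=
  Q.mul_mem (Q.mul_mem (Q.mul_mem (Q.mul_mem (Q.mul_mem (Q.pow_mem gb_mem 10) ga_mem) (Q.pow_mem gb_mem 10)) ga_mem)
    gb_mem) ga_mem

/-- the tables of `ge` -/
noncomputable def Le : List ℕ := rep (rep [tB] 11 ++ ([tA] ++ (rep [tB] 8 ++ [tA]))) 2
/-- the tables of `gc` -/
noncomputable def Lc : List ℕ := [tA] ++ ([tB] ++ ([tA] ++ (rep [tB] 10 ++ ([tA] ++ rep [tB] 10))))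

theorem tl_ge : Tl ge Le := ((tb_gb.tl.rep 11).mul (tb_ga.tl.mul ((tb_gb.tl.rep 8).mul tb_ga.tl))).rep 2

theorem tl_gc : Tl gc Lc :=
  tb_ga.tl.mul (tb_gb.tl.mul (tb_ga.tl.mul ((tb_gb.tl.rep 10).mul (tb_ga.tl.mul (tb_gb.tl.rep 10)))))

/-- no fixed points -/
noncomputable def okF (L : List ℕ) : Bool := allB (fun i => nbeq (ev7 L i) i) 100

/-- trivial -/
noncomputable def okI (L : List ℕ) : Bool := allB (fun i => Nat.beq (ev7 L i) i) 100

/-- no point moved to an adjacent point -/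
noncomputable def okG (P : ℕ) : Bool := allB (fun i => Nat.beq (bitM 100 adjA i (l7 P i)) 0) 100

theorem ne_of_okF {g : Perm (Fin 100)} {L : List ℕ} (hg : Tl g L) (h : okF L = true) (i : Fin 100) : g i ≠ i := by
  intro hi
  apply (nbeq_iff _ _).1 ((allB_iff _ _).1 h i i.2)
  rw [← hg i, hi]

theorem eq_of_okI {g : Perm (Fin 100)} {L : List ℕ} (hg : Tl g L) (h : okI L = true) : g = 1 :=
  Equiv.ext fun i => Fin.ext ((hg i).trans (Nat.eq_of_beq_eq_true ((allB_iff _ _).1 h i i.2)))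

theorem ge_five : ge ^ 5 = 1 := eq_of_okI (tl_ge.rep 5) (by decide +kernel)
theorem gc_five : gc ^ 5 = 1 := eq_of_okI (tl_gc.rep 5) (by decide +kernel)
theorem gv_five : gv ^ 5 = 1 := eq_of_okI ((tb_gy_pow 3 (by norm_num)).tl.rep 5) (by decide +kernel)

theorem ge_fpf : ∀ k < 5, 0 < k → ∀ i, (ge ^ k) i ≠ i := by
  intro k hk h0
  obtain rfl | rfl | rfl | rfl : k = 1 ∨ k = 2 ∨ k = 3 ∨ k = 4 := by omega
  all_goals exact ne_of_okF (tl_ge.rep _) (by decide +kernel)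

theorem gv_fpf : ∀ k < 5, 0 < k → ∀ i, (gv ^ k) i ≠ i := by
  intro k hk h0
  obtain rfl | rfl | rfl | rfl : k = 1 ∨ k = 2 ∨ k = 3 ∨ k = 4 := by omega
  all_goals exact ne_of_okF ((tb_gy_pow 3 (by norm_num)).tl.rep _) (by decide +kernel)

theorem gv_noadj : ∀ k < 5, ∀ i : Fin 100, bitM 100 adjA i ((gv ^ k) i) = 0 := by
  have key : ∀ k < 5, okG (yy (3 * k)) = true := by decide +kernel
  intro k hk i
  have h1 := Nat.eq_of_beq_eq_true ((allB_iff _ _).1 (key k hk) i i.2)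
  rw [gv, ← pow_mul, tb_gy_pow (3 * k) (by omega) i, h1]

theorem ge_adj : bitM 100 adjA ((0 : Fin 100) : ℕ) (ge 0) = 1 := by
  rw [tl_ge]
  decide +kernel

theorem mod_five {q : Perm (Fin 100)} (hq5 : q ^ 5 = 1) (n : ℕ) : q ^ n = q ^ (n % 5) := by
  conv_lhs => rw [← Nat.div_add_mod n 5, pow_add, pow_mul, hq5, one_pow, one_mul]

theorem gc_fix : gc 26 = 26 := by
  apply Fin.ext
  rw [tl_gc]
  decide +kernel

theorem gv_ne : gv ≠ 1 := fun h => gv_fpf 1 (by norm_num) (by norm_num) 0 (by rw [h, pow_one]; rfl)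
theorem ge_ne : ge ≠ 1 := fun h => ge_fpf 1 (by norm_num) (by norm_num) 0 (by rw [h, pow_one]; rfl)
theorem gc_ne : gc ≠ 1 := by
  intro h
  have h1 : ((gc 0 : Fin 100) : ℕ) = 0 := by rw [h]; rfl
  rw [tl_gc] at h1
  revert h1
  decide +kernel

/-- `gc` is not conjugate to a power of a fixed point free element -/
theorem ne_gc {q : Perm (Fin 100)} (hq : ∀ k < 5, 0 < k → ∀ i, (q ^ k) i ≠ i) :
    ∀ g : Perm (Fin 100), ∀ k < 5, g * gc * g⁻¹ ≠ q ^ k := by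
  intro g k hk h
  rcases Nat.eq_zero_or_pos k with rfl | h0
  · rw [pow_zero] at h
    apply gc_ne
    have h1 : gc = g⁻¹ * (g * gc * g⁻¹) * g := by group
    rw [h1, h]
    group
  · apply hq k hk h0 (g 26)
    rw [← h, Perm.mul_apply, Perm.mul_apply, pinv_apply, gc_fix]

/-- `ge` is not conjugate to a power of `gv` -/
theorem ne_ge {g : Perm (Fin 100)} (hg : g ∈ Q) (k : ℕ) (hk : k < 5) : g * ge * g⁻¹ ≠ gv ^ k := by
  intro h
  have h1 := gv_noadj k hk (g 0)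
  rw [← h, Perm.mul_apply, Perm.mul_apply, pinv_apply, Q_le hg, ge_adj] at h1
  exact absurd h1 (by norm_num)

theorem gy_fifteen : gy ^ 15 = 1 := by
  have h1 : gy ^ 15 = gv ^ 5 := by rw [gv, ← pow_mul]
  rw [h1, gv_five]

theorem gy_five_ne : gy ^ 5 ≠ 1 := by
  intro h
  have h1 := tb_gy_pow 5 (by norm_num) 0
  rw [h] at h1
  revert h1
  decide +kernel

theorem orderOf_gy : orderOf gy = 15 := by
  apply orderOf_eq_of_pow_and_pow_div_prime (by norm_num) gy_fifteen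
  intro p hp hd
  have h1 : p = 3 ∨ p = 5 := by
    have h2 : p ∣ 3 * 5 := hd
    rcases (Nat.Prime.dvd_mul hp).1 h2 with h3 | h3
    · exact Or.inl ((Nat.prime_dvd_prime_iff_eq hp (by norm_num)).1 h3)
    · exact Or.inr ((Nat.prime_dvd_prime_iff_eq hp (by norm_num)).1 h3)
  rcases h1 with rfl | rfl
  · exact gy_five_ne
  · exact gv_ne

theorem gy_fpf (i : Fin 100) : gy i ≠ i := ne_of_okF tb_gy.tl (by decide +kernel) i
theorem gx_fpf (i : Fin 100) : gx i ≠ i := ne_of_okF tb_gx.tl (by decide +kernel) i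
theorem gu_fpf (i : Fin 100) : gu i ≠ i := ne_of_okF tb_gu.tl (by decide +kernel) i

/-! ### in the group -/

theorem not_mem_zpowers {p q : Perm (Fin 100)} (hp : p ∈ Q) (hq : q ∈ Q) (hq5 : q ^ 5 = 1)
    (h : ∀ g ∈ Q, ∀ k < 5, g * p * g⁻¹ ≠ q ^ k) (g : ↥Q) : g * (⟨p, hp⟩ : ↥Q) * g⁻¹ ∉ zpowers (⟨q, hq⟩ : ↥Q) := by
  have hfin : Finite ↥Q := Cfsg.Agent.H966.Der.HS.finite isoQ
  intro hg
  obtain ⟨n, hn⟩ := mem_powers_iff_mem_zpowers.2 hg
  have h1 : q ^ n = (g : Perm (Fin 100)) * p * (g : Perm (Fin 100))⁻¹ := congrArg Subtype.val hn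
  rw [mod_five hq5] at h1
  exact h g g.2 (n % 5) (Nat.mod_lt _ (by norm_num)) h1.symm

theorem orderOf_mk_five {p : Perm (Fin 100)} (hp : p ∈ Q) (h5 : p ^ 5 = 1) (h1 : p ≠ 1) :
    orderOf (⟨p, hp⟩ : ↥Q) = 5 := by
  rw [Subgroup.orderOf_mk]
  have : Fact (Nat.Prime 5) := ⟨by norm_num⟩
  exact orderOf_eq_prime h5 h1

/-- at most one of the three classes -/
theorem two_of {M : Subgroup ↥Q} (hM : ¬ 5 ^ 2 ∣ Nat.card M) :
    (Av (⟨ge, ge_mem⟩ : ↥Q) M ∨ Av (⟨gv, gv_mem⟩ : ↥Q) M) ∧ (Av (⟨gc, gc_mem⟩ : ↥Q) M ∨ Av (⟨gv, gv_mem⟩ : ↥Q) M) ∧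
      (Av (⟨gc, gc_mem⟩ : ↥Q) M ∨ Av (⟨ge, ge_mem⟩ : ↥Q) M) := by
  have hfin : Finite ↥Q := Cfsg.Agent.H966.Der.HS.finite isoQ
  have ov := orderOf_mk_five gv_mem gv_five gv_ne
  have oe := orderOf_mk_five ge_mem ge_five ge_ne
  have oc := orderOf_mk_five gc_mem gc_five gc_ne
  exact ⟨H547.Der.miss_or (by norm_num) hM oe ov (not_mem_zpowers _ _ gv_five fun g hg k hk => ne_ge hg k hk),
    H547.Der.miss_or (by norm_num) hM oc ov (not_mem_zpowers _ _ gv_five fun g _ => ne_gc gv_fpf g),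
    H547.Der.miss_or (by norm_num) hM oc oe (not_mem_zpowers _ _ ge_five fun g _ => ne_gc ge_fpf g)⟩

theorem pigeon {vH eH cH vK eK cK : Prop} (p1 : eH ∨ vH) (p2 : cH ∨ vH) (p3 : cH ∨ eH) (q1 : eK ∨ vK) (q2 : cK ∨ vK)
    (q3 : cK ∨ eK) (r1 : vH → ¬ vK) (r2 : eH → ¬ eK) (r3 : cH → ¬ cK) : False := by
  tauto

theorem ordC {G : Type*} [Group G] (a z : G) : orderOf (a * z * a⁻¹) = orderOf z :=
  orderOf_injective (MulAut.conj a).toMonoidHom (MulAut.conj a).injective z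

theorem main (tab : Cfsg.Agent.OrdDiv.OrderTable.{0}) (known : Cfsg.Agent.H257.El.Known.{0}) {H K : Subgroup ↥Q}
    (hH : H ≠ ⊤) (hK : K ≠ ⊤) (h11 : 11 ∣ Nat.card H) : ∃ x : ↥Q, Av x H ∧ Av x K := by
  have hfin : Finite ↥Q := Cfsg.Agent.H966.Der.HS.finite isoQ
  have hcQ : Nat.card ↥Q = 44352000 := Cfsg.Agent.HN.AutBound.card_Q
  by_contra hcon
  have hcon : ∀ x : ↥Q, Av x H → ¬ Av x K := fun x h1 h2 => hcon ⟨x, h1, h2⟩
  have oy : orderOf (⟨gy, gy_mem⟩ : ↥Q) = 15 := by rw [Subgroup.orderOf_mk, orderOf_gy]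
  have h15 := not_15 tab known isoQ hH h11
  have hyH : Av (⟨gy, gy_mem⟩ : ↥Q) H := av_of_order fun z hz he => h15 z hz (he.trans oy)
  obtain ⟨a, ha⟩ := not_av (hcon _ hyH)
  have oa : orderOf (a * (⟨gy, gy_mem⟩ : ↥Q) * a⁻¹) = 15 := by rw [ordC, oy]
  have h11K : ¬ 11 ∣ Nat.card K := fun h => not_15 tab known isoQ hK h _ ha oa
  have h25H := not_25 tab known isoQ hH h11
  have h7K : 7 ∣ Nat.card K → ¬ 5 ^ 2 ∣ Nat.card K := fun h7 h25 =>
    not_15_of_seven tab known isoQ hK h7 h25 _ ha oa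
  by_cases h7 : 7 ∣ Nat.card H
  · obtain ⟨i, hi⟩ := fixes_point tab known hH h11 h7
    have hfp : ∀ (z : Perm (Fin 100)) (hz : z ∈ Q), (∀ j, z j ≠ j) → ¬ Av (⟨z, hz⟩ : ↥Q) K := by
      intro z hz hzf
      apply hcon
      intro g hg
      have h1 : ((g : Perm (Fin 100)) * z * (g : Perm (Fin 100))⁻¹) i = i := hi _ hg
      apply hzf ((g : Perm (Fin 100))⁻¹ i)
      rw [Perm.mul_apply, Perm.mul_apply] at h1
      have h2 := congrArg ((g : Perm (Fin 100))⁻¹ : Perm (Fin 100)) h1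
      rwa [pinv_apply] at h2
    have h25 : 5 ^ 2 ∣ Nat.card K := by
      by_contra h25
      rcases (two_of h25).1 with h | h
      · exact hfp ge ge_mem (fun j => by simpa using ge_fpf 1 (by norm_num) (by norm_num) j) h
      · exact hfp gv gv_mem (fun j => by simpa using gv_fpf 1 (by norm_num) (by norm_num) j) h
    have h7K' : ¬ 7 ∣ Nat.card K := fun h => h7K h h25
    obtain ⟨b, hb⟩ := not_av (hfp gx gx_mem gx_fpf)
    obtain ⟨c, hc⟩ := not_av (hfp gu gu_mem gu_fpf)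
    have hord : ∀ g ∈ K.map (Subgroup.subtype Q), orderOf g ∣ Nat.card K := by
      rintro _ ⟨g, hg, rfl⟩
      have h1 := Subgroup.orderOf_dvd_natCard K hg
      have h2 : orderOf (Subgroup.subtype Q g) = orderOf g :=
        orderOf_injective (Subgroup.subtype Q) (Subgroup.subtype_injective Q) g
      rwa [h2]
    exact K_false (K := K.map (Subgroup.subtype Q)) (fun g hg hd => h7K' (hd.trans (hord g hg)))
      (fun g hg hd => h11K (hd.trans (hord g hg))) a.2 b.2 c.2 ⟨_, ha, rfl⟩ ⟨_, hb, rfl⟩ ⟨_, hc, rfl⟩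
  · have : Fact (Nat.Prime 7) := ⟨by norm_num⟩
    obtain ⟨z, hz⟩ := exists_prime_orderOf_dvd_card' (G := ↥Q) 7 (by rw [hcQ]; norm_num)
    have hzH : Av z H := av_of_card fun h => h7 (by rwa [hz] at h)
    obtain ⟨d, hd⟩ := not_av (hcon _ hzH)
    have h7' : 7 ∣ Nat.card K := by
      have h1 := Subgroup.orderOf_dvd_natCard K hd
      rwa [ordC, hz] at h1
    have h25 : ¬ 5 ^ 2 ∣ Nat.card K := h7K h7'
    obtain ⟨p1, p2, p3⟩ := two_of h25H
    obtain ⟨q1, q2, q3⟩ := two_of h25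
    have r1 := hcon (⟨gv, gv_mem⟩ : ↥Q)
    have r2 := hcon (⟨ge, ge_mem⟩ : ↥Q)
    have r3 := hcon (⟨gc, gc_mem⟩ : ↥Q)
    exact pigeon p1 p2 p3 q1 q2 q3 r1 r2 r3

theorem noTwo_Q (tab : Cfsg.Agent.OrdDiv.OrderTable.{0}) (known : Cfsg.Agent.H257.El.Known.{0}) : NoTwo ↥Q := by
  intro H K hH hK
  by_cases h1 : 11 ∣ Nat.card H
  · exact main tab known hH hK h1
  · by_cases h2 : 11 ∣ Nat.card K
    · obtain ⟨x, hx, hy⟩ := main tab known hK hH h2
      exact ⟨x, hy, hx⟩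
    · have hfin : Finite ↥Q := Cfsg.Agent.H966.Der.HS.finite isoQ
      have : Fact (Nat.Prime 11) := ⟨by norm_num⟩
      obtain ⟨z, hz⟩ := exists_prime_orderOf_dvd_card' (G := ↥Q) 11
        (by rw [show Nat.card ↥Q = 44352000 from Cfsg.Agent.HN.AutBound.card_Q]; norm_num)
      exact ⟨z, av_of_card fun h => h1 (by rwa [hz] at h), av_of_card fun h => h2 (by rwa [hz] at h)⟩

end Cfsg.Agent.H461.Cov.HS

namespace Cfsg.Agent.H461.Cov

open Cfsg.Agent.H278.Cov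

/-- **the Higman–Sims group is not the union of the conjugates of two proper subgroups** -/
theorem noTwo_hs (tab : Cfsg.Agent.OrdDiv.OrderTable.{0}) (known : Cfsg.Agent.H257.El.Known.{0}) {T : Type} [Group T]
    [Finite T] (h : Spor.IsoHS T) : NoTwo T := by
  obtain ⟨e⟩ := h
  obtain ⟨f⟩ := HS.isoQ
  exact (HS.noTwo_Q tab known).congr (f.trans e.symm)

end Cfsg.Agent.H461.Cov
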