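import Cfsg.Agent.H461.Cov.CoTwoTop
import Cfsg.Agent.H771.RowCoTwo
import Cfsg.Agent.H280.HNArith
import Cfsg.Agent.H348.Der.SuzTools
import Cfsg.Agent.H966.Cov.SporMcL

/-!
# S2499, Co2: the subgroups of order divisible by 25 and 7 (helper461)

A proper subgroup of `Co2` of order divisible by 25 and with elements of orders 28 and 9 does not exist.
-/

set_option autoImplicit false

namespace Cfsg.Agent.H461.Cov.CoTwo

open Subgroup Cfsg
open Cfsg.Agent.OrdDiv Cfsg.Agent.H257.El Cfsg.Agent.H439.Der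
open Cfsg.Agent.H149.Sp (fd P5)
open Cfsg.Agent.H149.Sp.CopCo
open Cfsg.Agent.H149.Der
open Cfsg.Agent.H149.Der.Two
open Cfsg.Agent.H870.Der (exists_of_top)
open Cfsg.Agent.H870.Der.CoTwo (card_co2 noOrd23 exists30 exists28 not_sc23 l)

/-- no element of order 21 -/
theorem no_21 (z : Spor.Co2) : orderOf z ≠ 7 * 3 := by
  intro hz
  have h3 : orderOf (z ^ 7) = 3 := by rw [orderOf_pow_of_dvd (by norm_num) (by rw [hz]; norm_num), hz]
  have h7 : (z ^ 3) ^ 7 = 1 := by rw [← pow_mul]; exact hz ▸ pow_orderOf_eq_one z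
  have h1 := H771.RowCoTwo.no_comm h3 h7 ((Commute.refl z).pow_pow 7 3).eq
  have h2 := orderOf_dvd_of_pow_eq_one h1
  rw [hz] at h2
  norm_num at h2

theorem surv_d : surv 42305421312000 l 7 [5 ^ 2] =
    [.alt 10, .alt 11, .alt 12, .psu 3 5, .oplus 4 2, .j2, .mcl, .hs] := by decide +kernel

section

variable {R : Type*} [Group R] [Finite R]

/-- a subgroup of order `p ^ 2` normalising an `s`-group -/
theorem card_mod_of_normalizer_two {p s : ℕ} (hp : p.Prime) (hs : s.Prime) {Q P : Subgroup R} (hQ : Nat.card Q = p ^ 2)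
    (hP : IsPGroup s P) (hQP : Q ≤ normalizer (P : Set R))
    (hc : ∀ z : R, orderOf z = s → ¬ p ^ 2 ∣ Nat.card (centralizer ({z} : Set R))) :
    p ∣ Nat.card P - 1 := by
  classical
  have hp' := Fact.mk hp
  have hs' := Fact.mk hs
  have hconj : ∀ (q : Q) (z : R), z ∈ (P : Set R) \ {1} → (q : R) * z * (q : R)⁻¹ ∈ (P : Set R) \ {1} := by
    rintro q z ⟨hz, hz1⟩
    refine ⟨(mem_normalizer_iff.1 (hQP q.2) z).1 hz, fun h => hz1 ?_⟩
    rw [Set.mem_singleton_iff] at h ⊢
    rw [mul_inv_eq_one] at h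
    exact mul_left_cancel (h.trans (mul_one _).symm)
  let act : MulAction Q ↥((P : Set R) \ {1}) :=
    { smul := fun q z => ⟨(q : R) * z.1 * (q : R)⁻¹, hconj q z.1 z.2⟩
      one_smul := fun z => Subtype.ext (by show (1 : R) * z.1 * (1 : R)⁻¹ = z.1; simp)
      mul_smul := fun a b z => Subtype.ext (by
        show ((a * b : Q) : R) * z.1 * ((a * b : Q) : R)⁻¹ = a * (b * z.1 * (b : R)⁻¹) * (a : R)⁻¹
        rw [Subgroup.coe_mul]; group) }
  have hsm : ∀ (q : Q) (z : ↥((P : Set R) \ {1})), ((q • z : ↥((P : Set R) \ {1})) : R) = q * z.1 * (q : R)⁻¹ :=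
    fun _ _ => rfl
  have hX : Nat.card ↥((P : Set R) \ {1}) = Nat.card P - 1 := by
    rw [Nat.card_coe_set_eq, Set.ncard_sdiff_singleton_of_mem (one_mem P)]
    rfl
  rw [← hX]
  refine dvd_card_of_orbits (Q := Q) fun z => ?_
  obtain ⟨z, hzP, hz1⟩ := z
  set Z : ↥((P : Set R) \ {1}) := ⟨z, hzP, hz1⟩ with hZ
  obtain ⟨k, hk⟩ : ∃ k : ℕ, orderOf (z ^ k) = s := by
    obtain ⟨a, ha⟩ := (IsPGroup.iff_orderOf.1 hP) ⟨z, hzP⟩
    rw [Subgroup.orderOf_mk] at ha
    have ha0 : a ≠ 0 := by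
      rintro rfl
      rw [pow_zero, orderOf_eq_one_iff] at ha
      exact hz1 ha
    obtain ⟨c, rfl⟩ := Nat.exists_eq_succ_of_ne_zero ha0
    refine ⟨s ^ c, ?_⟩
    rw [orderOf_pow_of_dvd (pow_ne_zero _ hs.ne_zero) (by rw [ha]; exact pow_dvd_pow s (Nat.le_succ c)), ha,
      Nat.pow_div (Nat.le_succ c) hs.pos]
    simp
  have h1 : Nat.card (MulAction.orbit Q Z) * Nat.card (MulAction.stabilizer Q Z) = Nat.card Q := by
    rw [Nat.card_coe_set_eq, ← MulAction.index_stabilizer, mul_comm, Subgroup.card_mul_index]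
  have h2 : Nat.card (MulAction.stabilizer Q Z) ∣ Nat.card (centralizer ({z ^ k} : Set R)) := by
    have h3 : (MulAction.stabilizer Q Z).map Q.subtype ≤ centralizer ({z ^ k} : Set R) := by
      rintro _ ⟨q, hq, rfl⟩
      rw [mem_centralizer_singleton_iff]
      have h4 : (q : R) * z * (q : R)⁻¹ = z := by
        have h5 : q • Z = Z := hq
        have h6 := congrArg Subtype.val h5
        rwa [hsm] at h6
      have h5 : Commute (q : R) z := mul_inv_eq_iff_eq_mul.1 h4
      exact (h5.pow_right k).eq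
    have h4 := Subgroup.card_dvd_of_le h3
    rwa [Subgroup.card_map_of_injective Q.subtype_injective] at h4
  have h3 : ¬ p ^ 2 ∣ Nat.card (MulAction.stabilizer Q Z) := fun h => hc _ hk (h.trans h2)
  have h4 : Nat.card (MulAction.stabilizer Q Z) ∣ p ^ 2 := by
    rw [← hQ]
    exact Subgroup.card_subgroup_dvd_card _
  obtain ⟨j, hj, hj'⟩ := (Nat.dvd_prime_pow hp).1 h4
  have hj1 : j ≤ 1 := by
    by_contra hlt
    exact h3 (hj' ▸ pow_dvd_pow p (by omega))
  have h5 : Nat.card (MulAction.orbit Q Z) * p ^ j = p ^ 2 := by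
    rw [← hj', ← hQ]
    exact h1
  have h6 : p ^ 2 = p ^ (2 - j) * p ^ j := by rw [← pow_add]; congr 1; omega
  rw [h6] at h5
  rw [Nat.eq_of_mul_eq_mul_right (pow_pos hp.pos j) h5]
  exact dvd_pow_self p (by omega)

/-- a large simple group on top of a group of order 16 -/
theorem act_false (O : Subgroup R) [hO : O.Normal] (hc : Nat.card O = 16) (N : Subgroup (R ⧸ O)) (_ : N.Normal)
    (hs : IsSimpleGroup N) (h12 : 2 ^ 12 ∣ Nat.card N) (h25 : 5 ^ 2 ∣ Nat.card N)
    (hz : ∀ z : R, orderOf z = 2 → ¬ 5 ^ 2 ∣ Nat.card (centralizer ({z} : Set R))) : False := by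
  set φ : R →* MulAut O := MulAut.conjNormal with hφ
  have hf : Function.Surjective (QuotientGroup.mk' O) := QuotientGroup.mk'_surjective O
  set C : Subgroup (R ⧸ O) := φ.ker.map (QuotientGroup.mk' O) with hC
  have hCn : C.Normal := Subgroup.Normal.map inferInstance _ hf
  have hsub : (C.subgroupOf N).Normal := inferInstance
  rcases hsub.eq_bot_or_eq_top with h | h
  · -- the action is faithful on `N`
    have h1 : Nat.card N ∣ C.index := by
      have h2 : Nat.card N = (C.subgroupOf N).index := by rw [h, Subgroup.index_bot]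
      rw [h2]
      exact Subgroup.relIndex_dvd_index_of_normal C N
    have h2 : C.index ∣ φ.ker.index := Subgroup.index_map_dvd _ hf
    have h3 : φ.ker.index ∣ Nat.card (MulAut O) := by
      rw [Subgroup.index_ker]
      exact Subgroup.card_subgroup_dvd_card _
    have h4 : Nat.card (MulAut O) ∣ (Nat.card O - 1).factorial := SmallSimple.KleinFourAut.card_mulAut_dvd O
    rw [hc] at h4
    have h5 : 2 ^ 12 ∣ (16 - 1).factorial := h12.trans (h1.trans (h2.trans (h3.trans h4)))
    exact absurd h5 (by decide +kernel)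
  · have h1 : N ≤ C := Subgroup.subgroupOf_eq_top.1 h
    have h2 : 5 ^ 2 ∣ Nat.card φ.ker := h25.trans ((Subgroup.card_dvd_of_le h1).trans (Subgroup.card_map_dvd _ _))
    have h2' : Fact (Nat.Prime 2) := ⟨Nat.prime_two⟩
    obtain ⟨t, ht⟩ := exists_prime_orderOf_dvd_card' (G := O) 2 (by rw [hc]; norm_num)
    have h3 : φ.ker ≤ centralizer ({(t : R)} : Set R) := by
      intro g hg
      rw [mem_centralizer_singleton_iff]
      have h4 : φ g t = t := by rw [MonoidHom.mem_ker.1 hg]; rfl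
      have h5 : g * (t : R) * g⁻¹ = t := by
        have h6 := congrArg Subtype.val h4
        rwa [hφ, MulAut.conjNormal_apply] at h6
      exact mul_inv_eq_iff_eq_mul.1 h5
    exact hz t (by rw [Subgroup.orderOf_coe, ht]) (h2.trans (Subgroup.card_dvd_of_le h3))

/-- the sixth power of an element of order 28 -/
theorem exists_six {O : Subgroup R} [O.Normal] {N : Subgroup (R ⧸ O)} [N.Normal] (hO : O = ⊥) (hi : N.index ∣ 6)
    {z : R} (hz : orderOf z = 28) : ∃ y : N, orderOf y = 14 := by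
  have hinj : Function.Injective (QuotientGroup.mk' O) := by
    rw [← MonoidHom.ker_eq_bot_iff, QuotientGroup.ker_mk', hO]
  have hmem : (QuotientGroup.mk' O z) ^ 6 ∈ N := by
    obtain ⟨k, hk⟩ := hi
    rw [hk, pow_mul]
    exact pow_mem (Subgroup.pow_index_mem N _) k
  refine ⟨⟨_, hmem⟩, ?_⟩
  rw [Subgroup.orderOf_mk, orderOf_pow, orderOf_injective _ hinj, hz]
  norm_num

end

/-- the odd part of the core -/
theorem core_odd {R : Subgroup Spor.Co2} {O : Subgroup R} [O.Normal] {N : Subgroup (R ⧸ O)} (ht : Top R 7 O N) {m : ℕ}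
    (hm : m * Nat.card N = 42305421312000) (h3 : ¬ 3 ^ 6 ∣ m) :
    Nat.card O ∣ m ∧ ∀ s : ℕ, s.Prime → s ≠ 2 → ¬ s ∣ Nat.card O := by
  have hfin := finite_co2
  have hRn : Nat.card R ∣ 42305421312000 := by
    rw [← card_co2]
    exact Subgroup.card_subgroup_dvd_card R
  have hOm : Nat.card O ∣ m := by
    have h1 := core_mul_dvd N (O := O) (R := R)
    have h4 : Nat.card O * Nat.card N ∣ m * Nat.card N := by
      rw [hm]
      exact (Dvd.intro _ h1).trans hRn
    exact Nat.dvd_of_mul_dvd_mul_right Nat.card_pos h4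
  refine ⟨hOm, fun s hs h2 hsO => ?_⟩
  have hrs : 7 ≠ s := by
    rintro rfl
    exact ht.core hsO
  obtain ⟨k, hk, -⟩ := exists_pair valid2 hs le_rfl (by
    rw [pow_one]
    exact (hsO.trans (Subgroup.card_subgroup_dvd_card O)).trans hRn)
  by_cases hs3 : s = 3
  · subst hs3
    obtain ⟨b, hb1, hd, hb2, -⟩ := core_pow O (r := 7) (s := 3) (by norm_num) hs hrs ht.dvdR ht.core hsO
      (SitA.noR no_21)
    have hb5 : b ≤ 5 := by
      by_contra h
      exact h3 ((pow_dvd_pow 3 (by omega)).trans (hd.trans hOm))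
    interval_cases b <;> omega
  · have h1 : (l.all fun x => Nat.beq x.1 7 || Nat.beq x.1 2 || Nat.beq x.1 3 || okPow l 7 x.1) = true := by
      decide +kernel
    rw [List.all_eq_true] at h1
    have h2' := h1 _ hk
    rw [Bool.or_eq_true, Bool.or_eq_true, Bool.or_eq_true] at h2'
    rcases h2' with ((h2' | h2') | h2') | h2'
    · exact hrs (Nat.eq_of_beq_eq_true h2').symm
    · exact h2 (Nat.eq_of_beq_eq_true h2')
    · exact hs3 (Nat.eq_of_beq_eq_true h2')
    · refine ht.not_dvd_core hs hrs (SitA.noR (no2 (Or.inr (Or.inl rfl)) ?_ hrs)) (fun _ hb hd => okPow_spec valid2 h2'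
        hs hb (hd.trans hRn)) hsO
      simp only [l, List.mem_cons, Prod.mk.injEq, List.not_mem_nil, or_false] at hk
      rcases hk with ⟨rfl, -⟩ | ⟨rfl, -⟩ | ⟨rfl, -⟩ | ⟨rfl, -⟩ | ⟨rfl, -⟩ | ⟨rfl, -⟩
      · exact absurd rfl h2
      · exact absurd rfl hs3
      · exact Or.inl rfl
      · exact Or.inr (Or.inl rfl)
      · exact Or.inr (Or.inr (Or.inl rfl))
      · exact Or.inr (Or.inr (Or.inr (Or.inr rfl)))

/-- the 2-part of the core -/
theorem core_even {R : Subgroup Spor.Co2} {O : Subgroup R} [O.Normal] {N : Subgroup (R ⧸ O)} (ht : Top R 7 O N) {m : ℕ}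
    (hm : m * Nat.card N = 42305421312000) (h3 : ¬ 3 ^ 6 ∣ m) (h2 : ¬ 2 ^ 20 ∣ m) (h5 : 5 ^ 3 ∣ Nat.card N) : O = ⊥ := by
  have hfin := finite_co2
  obtain ⟨hOm, hodd⟩ := core_odd ht hm h3
  have hNR : Nat.card N ∣ Nat.card R := by
    have h1 := core_mul_dvd N (O := O) (R := R)
    rw [← h1, mul_comm (Nat.card O), mul_assoc]
    exact dvd_mul_right _ _
  refine H870.Der.eq_bot_of_not_dvd fun s hs hsO => ?_
  by_cases hs2 : s = 2
  · subst hs2
    refine core_false O (p := 5) (s := 2) (by norm_num) hs (h5.trans hNR) (hodd 5 (by norm_num) (by norm_num)) hsO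
      (fun z hz hd => ?_) fun b hb1 hbO => ?_
    · exact co2_2_5 (z : Spor.Co2) (by rw [Subgroup.orderOf_coe, hz]) (hd.trans (card_cent_sub z))
    · by_cases h20 : b < 20
      · interval_cases b <;> decide
      · exact absurd ((pow_dvd_pow 2 (not_lt.1 h20)).trans (hbO.trans hOm)) h2
  · exact hodd s hs hs2 hsO

/-- `|Out U3(5)|` divides 6 -/
theorem aut_u35 {S : Type*} [Group S] (h : Real (.psu 3 5) S) : Nat.card (MulAut S) ∣ 6 * Nat.card S := by
  obtain ⟨F, _, _, hF, ⟨e⟩⟩ := h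
  have : Fact (Nat.Prime 5) := ⟨by norm_num⟩
  rw [Nat.card_congr (MulAut.congr e).toEquiv, Nat.card_congr e.toEquiv,
    S0815.result 5 1 le_rfl (q := 5) (by norm_num) hF 3 le_rfl (by norm_num)]
  norm_num

/-- `|Out O8+(2)|` divides 6 -/
theorem aut_o8 {S : Type*} [Group S] [Finite S] [IsSimpleGroup S] (hna : ¬ ∀ a b : S, a * b = b * a)
    (hr : Real (.oplus 4 2) S) : Nat.card (MulAut S) ∣ 6 * Nat.card S := by
  have h' := hr
  obtain ⟨F, _, _, hF, ⟨e⟩⟩ := h'
  have h4 : H902.Art.Real (.D 4) 2 1 (Nat.card S) := by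
    rw [Nat.card_congr e.toEquiv]
    exact H902.Names.oplus_real Nat.prime_two (by norm_num) (by rw [hF]; norm_num) (by norm_num)
  have hg' : H902.Names.IsLie (.oplus 4 2) (.D 4) 2 1 := by
    have := H902.Names.IsLie.oplus 4 2 1
    rwa [pow_one] at this
  obtain ⟨c, h5, -, h6⟩ := H364.OutLie.card_out hna hg' hr h4
  have h7 : c ∣ 6 := by
    have h8 := h6 rfl
    have h9 : H902.Art.dd (.D 4) (2 ^ 1) = 1 := by decide +kernel
    rwa [h9, mul_one] at h8
  refine card_mulAut_dvd.trans (Nat.mul_dvd_mul_right ?_ _)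
  rw [h5, mul_one]
  exact h7

/-- `McL` on top of the trivial group -/
theorem false_mcl {R : Subgroup Spor.Co2} {O : Subgroup R} [O.Normal] (hO : O = ⊥) {N : Subgroup (R ⧸ O)} [N.Normal]
    (hr : Spor.IsoMcL N) (hi : N.index ∣ 2) {a : R} (ha : orderOf a = 28) : False := by
  have hfin := finite_co2
  subst hO
  have hinj : Function.Injective (QuotientGroup.mk' (⊥ : Subgroup R)) := by
    rw [← MonoidHom.ker_eq_bot_iff, QuotientGroup.ker_mk']
  have hmem : (QuotientGroup.mk' (⊥ : Subgroup R) a) ^ 14 ∈ N := by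
    obtain ⟨k, hk⟩ := hi.trans (by norm_num : 2 ∣ 14)
    rw [hk, pow_mul]
    exact pow_mem (Subgroup.pow_index_mem N _) k
  have ht : orderOf (⟨_, hmem⟩ : N) = 2 := by
    rw [Subgroup.orderOf_mk, orderOf_pow, orderOf_injective _ hinj, ha]
    norm_num
  let φ : N →* Co0 := (f2.comp R.subtype).comp ((QuotientGroup.quotientBot (G := R)).toMonoidHom.comp N.subtype)
  have hφ : Function.Injective φ := (f2_inj.comp R.subtype_injective).comp
    ((QuotientGroup.quotientBot (G := R)).injective.comp N.subtype_injective)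
  have h1 := mcl_sixteen hr hφ leechU_ne (fun g => f2_fix _) ht
  have h2 : φ ⟨_, hmem⟩ = (f2 (a : Spor.Co2)) ^ 14 := (map_pow f2 (a : Spor.Co2) 14).symm ▸ rfl
  rw [h2] at h1
  refine fd_28 ?_ h1
  rw [orderOf_injective f2 f2_inj, Subgroup.orderOf_coe, ha]

/-- **no proper subgroup of order divisible by 25 with elements of orders 28 and 9** -/
theorem false_of_28 (tab : OrderTable.{0}) (known : Known.{0}) {R : Subgroup Spor.Co2} (hR : R ≠ ⊤)
    (h25 : 25 ∣ Nat.card R) {a b : Spor.Co2} (ha : a ∈ R) (ha28 : orderOf a = 28) (hb : b ∈ R) (hb9 : orderOf b = 9) :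
    False := by
  have hfin := finite_co2
  have hRn : Nat.card R ∣ 42305421312000 := by
    rw [← card_co2]
    exact Subgroup.card_subgroup_dvd_card R
  have h7 : 7 ∣ Nat.card R := by
    have h1 := Subgroup.orderOf_dvd_natCard R ha
    rw [ha28] at h1
    exact (by norm_num : 7 ∣ 28).trans h1
  obtain ⟨O, hO, N, g, ht, hna, hg, hr, hgc⟩ := exists_name tab known card_co2 valid2 (r := 7) (by norm_num)
    (by decide +kernel) hR h7 (ss := [(5, 2)]) (by simp) (by
      intro t ht
      rw [List.mem_singleton] at ht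
      rw [ht]
      exact adm (by norm_num) (by norm_num) (by norm_num; exact h25) (no2 (Or.inr (Or.inl rfl)) (Or.inl rfl)
          (by norm_num)) (by decide +kernel))
  rw [List.map_singleton, surv_d] at hg
  have hNn := ht.normal
  have hsim := ht.simple
  have za : orderOf (⟨a, ha⟩ : R) = 28 := by rw [Subgroup.orderOf_mk, ha28]
  have zb : orderOf (⟨b, hb⟩ : R) = 9 := by rw [Subgroup.orderOf_mk, hb9]
  have h5O : ¬ 5 ∣ Nat.card O := ht.not_dvd_core (by norm_num) (by norm_num) (SitA.noR (no2 (Or.inr (Or.inl rfl))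
    (Or.inl rfl) (by norm_num))) fun _ hb hd => okPow_spec valid2 (by decide +kernel) (by norm_num) hb
      (hd.trans hRn)
  simp only [List.mem_cons, List.not_mem_nil, or_false] at hg
  rcases hg with rfl | rfl | rfl | rfl | rfl | rfl | rfl | rfl
  · -- `A10`
    obtain ⟨e⟩ := hr
    obtain ⟨σ, hσ⟩ := Cfsg.Agent.H966.Der.exists_21_10
    obtain ⟨z, hz⟩ := Cfsg.Agent.H257.El.Sit.exists_orderOf (N := N) (k := 21)
      ⟨e.symm σ, by rw [MulEquiv.orderOf_eq, hσ]⟩
    exact no_21 z hz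
  · exact false_of_alt (T := Spor.Co2) h5O co2_5_3 (Or.inl hr)
  · exact false_of_alt (T := Spor.Co2) h5O co2_5_3 (Or.inr hr)
  · -- `U3(5)`
    have hc : Nat.card N = 126000 := by rw [hgc]; decide +kernel
    have hb := core_even ht (m := 335757312) (by rw [hc]) (by norm_num) (by norm_num) (by rw [hc]; norm_num)
    obtain ⟨y, hy⟩ := exists_six hb (ht.index_dvd_out hna (aut_u35 hr)) za
    exact H966.Der.iso_7_u35 hr 2 (by norm_num) (by norm_num) y (by rw [hy])
  · -- `O8+(2)`
    have hc : Nat.card N = 174182400 := by rw [hgc]; decide +kernel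
    obtain ⟨hOm, hodd⟩ := core_odd ht (m := 242880) (by rw [hc]) (by norm_num)
    have hO2 : ∃ k, Nat.card O = 2 ^ k := by
      refine ⟨_, Nat.eq_prime_pow_of_unique_prime_dvd Nat.card_pos.ne' fun {s} hs hd => ?_⟩
      by_contra h
      exact hodd s hs h hd
    obtain ⟨k, hk⟩ := hO2
    have hk6 : k ≤ 6 := by
      by_contra h
      rw [hk] at hOm
      have h1 : 2 ^ 7 ∣ 242880 := (pow_dvd_pow 2 (by omega)).trans hOm
      norm_num at h1
    have hcent : ∀ z : R, orderOf z = 2 → ¬ 5 ^ 2 ∣ Nat.card (centralizer ({z} : Set R)) := fun z hz hd =>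
      co2_2_5 (z : Spor.Co2) (by rw [Subgroup.orderOf_coe, hz]) (hd.trans (card_cent_sub z))
    have h5' : Fact (Nat.Prime 5) := ⟨by norm_num⟩
    obtain ⟨Q, hQ⟩ := Sylow.exists_subgroup_card_pow_prime 5 (n := 2) (G := R) (by norm_num; exact h25)
    have h5k := card_mod_of_normalizer_two (R := R) (p := 5) (s := 2) (by norm_num) Nat.prime_two hQ (P := O)
      (IsPGroup.of_card hk) (by rw [Subgroup.normalizer_eq_top]; exact le_top) hcent
    rw [hk] at h5k
    have hk04 : k = 0 ∨ k = 4 := by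
      interval_cases k <;> omega
    rcases hk04 with rfl | rfl
    · have hb : O = ⊥ := by rw [← Subgroup.card_eq_one, hk, pow_zero]
      obtain ⟨y, hy⟩ := exists_six hb (ht.index_dvd_out hna (aut_o8 hna hr)) za
      exact H348.Der.SuzRow.no_14_o8 hr y hy
    · exact act_false O (by rw [hk]; norm_num) N hNn hsim (by rw [hc]; norm_num) (by rw [hc]; norm_num) hcent
  · -- `J2`
    have hc : Nat.card N = 604800 := hgc
    obtain ⟨hOm, hodd⟩ := core_odd ht (m := 69949440) (by rw [hc]) (by norm_num)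
    have hout : Nat.card (Cfsg.Out N) ∣ 2 :=
      H365.SporCheck.out_dvd tab hna .j2 (by decide +kernel) hr
    have hi : N.index ∣ 2 := ht.index_dvd_out hna (card_mulAut_dvd.trans (Nat.mul_dvd_mul_right hout _))
    have c3 : Nat.Coprime 3 (Nat.card O) :=
      (Nat.Prime.coprime_iff_not_dvd (by norm_num)).2 (hodd 3 (by norm_num) (by norm_num))
    obtain ⟨y, hy⟩ := exists_of_top (O := O) (N := N) (z := (⟨b, hb⟩ : R)) (k := 9)
      (by rw [show 9 = 3 * 3 by norm_num]; exact c3.mul_left c3)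
      (Nat.Coprime.coprime_dvd_right hi (by norm_num)) zb
    obtain ⟨e⟩ := hr
    have h1 : orderOf (e y) ∈ Set.range (orderOf : Spor.J2 → ℕ) := ⟨e y, rfl⟩
    rw [Cfsg.Agent.H379.J2Spec.range_J2, MulEquiv.orderOf_eq, hy] at h1
    simp at h1
  · -- `McL`
    have hr : Spor.IsoMcL N := hr
    have hc : Nat.card N = 898128000 := NotCT.Orders.mcl hr
    have hb := core_even ht (m := 47104) (by rw [hc]) (by norm_num) (by norm_num) (by rw [hc]; norm_num)
    exact false_mcl hb hr (ht.index_dvd_out hna (by rw [← out_mcl hr]; exact card_mulAut_dvd)) za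
  · -- `HS`
    have hr : Spor.IsoHS N := hr
    have hc : Nat.card N = 44352000 := NotCT.Orders.hs hr
    have hb := core_even ht (m := 953856) (by rw [hc]) (by norm_num) (by norm_num) (by rw [hc]; norm_num)
    have hi : N.index ∣ 2 := ht.index_dvd_out hna (by rw [← out_hs hr]; exact card_mulAut_dvd)
    obtain ⟨y, hy⟩ := exists_sq (O := O) (N := N) hb hi (k := 14) za
    exact hs_no hr (k := 2) (by norm_num) y hy

end Cfsg.Agent.H461.Cov.CoTwo
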