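import Cfsg.Agent.H149.Der.CoTwoS
import Cfsg.Agent.H831.FF.Trace
import Cfsg.Agent.UGT.End.Octad
import Cfsg.Agent.TypeM.FactsMcL
import Cfsg.Agent.H45.Thin.Leech

/-!
# S2499, Co2: dimensions of fixed spaces (helper461)

* `fd_eight` : an element of order five which normalises but does not centralise a subgroup of order 11 (and fixes a
  vector together with it) has an 8-dimensional fixed space;
* `fd_28` : the 14th power of an element of order 28 does not have a 16-dimensional fixed space;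
* `mcl_sixteen` : the involutions of a subgroup `McL` have 16-dimensional fixed spaces;
* `exists_30` : an element of order 30 whose 6th power has an 8-dimensional fixed space.
-/

set_option autoImplicit false

namespace Cfsg.Agent.H461.Cov.CoTwo

open Cfsg Module Subgroup
open Cfsg.Agent.SigZeroCo2.Rank (fix mem_fix)
open Cfsg.Agent.SigZeroCo2.Lin (rep Sp rep_injective trace_rep)
open Cfsg.Agent.CpAutCoFive (nr mv mem_mv nr_fix nr_mem_fix mv_inv le_fix_of dvd_finrank_sub finrank_add eq_zero_of_fix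
  finrank_Sp)
open Cfsg.Agent.H149.Sp (fd fd_le)
open Cfsg.Agent.H149.Sp.CopCo
open Cfsg.Agent.H149.Der (fd_conj fix_zpowers fd_pos fd_five trace_nr leechU_ne)
open Cfsg.Agent.Co2Type.Mono (tr8)

/-! ### eleven and five -/

/-- the elements `x w` are conjugate to `x` -/
theorem exists_conj_mul {G : Type*} [Group G] [Finite G] {x z : G} (hn : ∀ w ∈ zpowers z, x⁻¹ * w * x ∈ zpowers z)
    (hf : ∀ w ∈ zpowers z, x * w = w * x → w = 1) {w : G} (hw : w ∈ zpowers z) : ∃ g : G, g * x * g⁻¹ = x * w := by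
  let f : zpowers z → zpowers z := fun g => ⟨x⁻¹ * g * x * (g : G)⁻¹, mul_mem (hn _ g.2) (inv_mem g.2)⟩
  have hinj : Function.Injective f := by
    intro g h hgh
    have h1 : x⁻¹ * (g : G) * x * (g : G)⁻¹ = x⁻¹ * (h : G) * x * (h : G)⁻¹ := congrArg Subtype.val hgh
    have h2 : x * ((h : G)⁻¹ * g) = ((h : G)⁻¹ * g) * x := by
      have hc : (g : G) * (h : G) = h * g := by
        obtain ⟨i, hi⟩ := mem_zpowers_iff.1 g.2
        obtain ⟨j, hj⟩ := mem_zpowers_iff.1 h.2
        rw [← hi, ← hj]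
        exact ((Commute.refl z).zpow_zpow i j).eq
      have h3 : (g : G) * x * (g : G)⁻¹ = (h : G) * x * (h : G)⁻¹ := by
        have h4 := congrArg (fun u => x * u) h1
        simpa [mul_assoc] using h4
      calc x * ((h : G)⁻¹ * g) = (h : G)⁻¹ * ((h : G) * x * (h : G)⁻¹) * g := by group
        _ = (h : G)⁻¹ * ((g : G) * x * (g : G)⁻¹) * g := by rw [h3]
        _ = ((h : G)⁻¹ * g) * x := by group
    have h5 := hf _ (mul_mem (inv_mem h.2) g.2) h2
    exact (Subtype.ext (inv_mul_eq_one.1 h5)).symm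
  obtain ⟨g, hg⟩ := Finite.surjective_of_injective hinj ⟨w, hw⟩
  refine ⟨g, ?_⟩
  have h1 : x⁻¹ * (g : G) * x * (g : G)⁻¹ = w := congrArg Subtype.val hg
  rw [← h1]
  group

/-- **eleven and five** -/
theorem fd_eight {T : Type*} [Group T] [Finite T] {φ : T →* Co0} (hφ : Function.Injective φ) {v : leechLattice}
    (hv : v ≠ 0) (hfix : ∀ g, φ g • v = v) {x z : T} (hx : orderOf x = 5) (hz : orderOf z = 11)
    (hn : ∀ w ∈ zpowers z, x⁻¹ * w * x ∈ zpowers z) (hne : x * z ≠ z * x) : fd (φ x) = 8 := by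
  have ho : ∀ g : T, orderOf (φ g) = orderOf g := orderOf_injective φ hφ
  have hx' : orderOf (φ x) = 5 := (ho x).trans hx
  have hz' : orderOf (φ z) = 11 := (ho z).trans hz
  have px := rep_pow hx'
  have pz := rep_pow hz'
  -- the fixed space of `z`
  have h4 : finrank ℚ (fix (rep (φ z))) = 4 := by
    obtain ⟨k, hk⟩ := PreUniqCo.Rat.prime_dvd (r := 11) (by norm_num) pz
    rw [finrank_Sp] at hk
    have h1 : fd (φ z) ≤ 4 := fd_le (Or.inr (Or.inr (Or.inl rfl))) hz'
    have h2 := fd_pos hv (hfix z)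
    have h3 : fd (φ z) = finrank ℚ (fix (rep (φ z))) := rfl
    omega
  -- `z` generates
  have hf : ∀ w ∈ zpowers z, x * w = w * x → w = 1 := by
    intro w hw hc
    by_contra h1
    have h2 : zpowers w = zpowers z := by
      have : Fact (Nat.Prime 11) := ⟨by norm_num⟩
      apply Subgroup.eq_of_le_of_card_ge (zpowers_le.2 hw)
      have h3 : Nat.card (zpowers w) ∣ 11 := by
        rw [← hz, ← Nat.card_zpowers z]
        exact Subgroup.card_dvd_of_le (zpowers_le.2 hw)
      rcases (Nat.dvd_prime (by norm_num)).1 h3 with h4 | h4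
      · rw [Nat.card_zpowers, orderOf_eq_one_iff] at h4
        exact absurd h4 h1
      · rw [h4, Nat.card_zpowers, hz]
    apply hne
    have h3 : z ∈ zpowers w := by rw [h2]; exact mem_zpowers z
    obtain ⟨k, hk⟩ := mem_zpowers_iff.1 h3
    rw [← hk]
    exact ((show Commute x w from hc).zpow_right k).eq
  have hinv : ∀ w ∈ fix (rep (φ z)), rep (φ x) w ∈ fix (rep (φ z)) := by
    intro w hw
    rw [mem_fix, ← Module.End.mul_apply, ← map_mul, ← map_mul]
    have h1 : z * x = x * (x⁻¹ * z * x) := by group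
    rw [h1, map_mul, map_mul, Module.End.mul_apply]
    have h2 : φ (x⁻¹ * z * x) ∈ zpowers (φ z) := by
      obtain ⟨k, hk⟩ := mem_zpowers_iff.1 (hn z (mem_zpowers z))
      exact mem_zpowers_iff.2 ⟨k, by rw [← hk, map_zpow]⟩
    have h3 := fix_zpowers h2 (orderOf_pos_iff.1 (by rw [hz']; norm_num)) hw
    rw [mem_fix.1 h3]
  have hle : fix (rep (φ z)) ≤ fix (rep (φ x)) := by
    refine le_fix_of (r := 5) (by norm_num) px hinv ?_
    have h1 : Nat.totient 5 ∣ finrank ℚ (fix (rep (φ z)) ⊓ mv (rep (φ x)) 5 : Submodule ℚ Sp) := by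
      refine dvd_finrank_sub (by norm_num) px (fun w hw => ⟨hinv w hw.1, mv_inv (Commute.refl _) hw.2⟩) ?_
      intro p hp hp5 w hw hw'
      have h2 : p = 5 := (Nat.prime_dvd_prime_iff_eq hp (by norm_num)).1 hp5
      subst h2
      exact eq_zero_of_fix (r := 5) (by norm_num) (by simpa using hw') hw.2
    rw [Nat.totient_prime (by norm_num)] at h1
    have h2 : finrank ℚ (fix (rep (φ z)) ⊓ mv (rep (φ x)) 5 : Submodule ℚ Sp) < 4 := by
      rw [← h4]
      apply Submodule.finrank_lt_finrank_of_lt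
      refine lt_of_le_of_ne inf_le_left fun h => ?_
      have h3 := toV_mem (hfix z)
      rw [← h] at h3
      exact toV_ne hv (eq_zero_of_fix (r := 5) (by norm_num) (mem_fix.1 (toV_mem (hfix x))) h3.2)
    have h5 : finrank ℚ (fix (rep (φ z)) ⊓ mv (rep (φ x)) 5 : Submodule ℚ Sp) = 0 := by omega
    have h6 := Submodule.finrank_eq_zero.1 h5
    intro w hw hw'
    have h7 : w ∈ (fix (rep (φ z)) ⊓ mv (rep (φ x)) 5 : Submodule ℚ Sp) := ⟨hw, hw'⟩
    rwa [h6, Submodule.mem_bot] at h7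
  -- traces
  have htr : ∀ i : ℕ, LinearMap.trace ℚ Sp (rep (φ x) * rep (φ z) ^ i) = LinearMap.trace ℚ Sp (rep (φ x)) := by
    intro i
    obtain ⟨g, hg⟩ := exists_conj_mul hn hf (w := z ^ i) (pow_mem (mem_zpowers z) i)
    rw [← map_pow, ← map_mul, ← map_pow, ← map_mul, trace_rep, trace_rep]
    congr 2
    rw [← hg]
    refine CoFive.Dims.tr8_isConj (isConj_iff.2 ⟨(φ g)⁻¹, ?_⟩)
    rw [map_mul, map_mul, map_inv]
    group
  have hsum : rep (φ x) * nr (rep (φ z)) 11 = nr (rep (φ z)) 11 := by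
    apply LinearMap.ext
    intro u
    rw [Module.End.mul_apply]
    exact mem_fix.1 (hle (nr_mem_fix pz u))
  have h5 : LinearMap.trace ℚ Sp (rep (φ x) * nr (rep (φ z)) 11) = 11 * LinearMap.trace ℚ Sp (rep (φ x)) := by
    unfold nr
    rw [Finset.mul_sum, map_sum, Finset.sum_congr rfl fun i _ => htr i, Finset.sum_const, Finset.card_range,
      nsmul_eq_mul]
    norm_num
  rw [hsum, trace_nr (by norm_num) pz, h4] at h5
  have h6 : LinearMap.trace ℚ Sp (rep (φ x)) = 4 := by
    push_cast at h5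
    linarith
  rw [trace_rep] at h6
  have h7 := CoFive.Dims.five_finrank hx'
  have h8 : (fd (φ x) : ℚ) = (8 : ℕ) := by
    have h9 : (fd (φ x) : ℚ) = (finrank ℚ (fix (rep (φ x))) : ℚ) := rfl
    rw [h9]
    push_cast
    linarith
  exact_mod_cast h8

/-! ### elements of order 28 -/

/-- **elements of order 28** -/
theorem fd_28 {g : Co0} (hg : orderOf g = 28) : fd (g ^ 14) ≠ 16 := by
  intro h16
  have h4 : orderOf (g ^ 7) = 4 := by rw [orderOf_pow_of_dvd (by norm_num) (by rw [hg]; norm_num), hg]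
  have h7 : orderOf (g ^ 4) = 7 := by rw [orderOf_pow_of_dvd (by norm_num) (by rw [hg]; norm_num), hg]
  have h2 : orderOf (g ^ 14) = 2 := by rw [orderOf_pow_of_dvd (by norm_num) (by rw [hg]; norm_num), hg]
  have hc : Commute (rep (g ^ 7)) (rep (g ^ 4)) := comm_rep ((Commute.refl g).pow_pow 7 4)
  have hc2 : Commute (rep (g ^ 14)) (rep (g ^ 4)) := comm_rep ((Commute.refl g).pow_pow 14 4)
  have h1 := totient_dvd (m := 4) (n := 7) (p := 2) (q := 7) (by norm_num) (by norm_num) (by norm_num)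
    (fun l hl hd => (Nat.prime_dvd_prime_iff_eq hl Nat.prime_two).1 (hl.dvd_of_dvd_pow (show l ∣ 2 ^ 2 from hd)))
    (fun l hl hd => (Nat.prime_dvd_prime_iff_eq hl (by norm_num)).1 hd)
    (rep_pow h4) (rep_pow h7) hc (x := rep (g ^ 14)) (y := rep (g ^ 4))
    (by rw [← map_pow, ← pow_mul]) (by norm_num) (by norm_num) (by norm_num)
  have h3 : Nat.totient (4 * 7) = 12 := by decide
  rw [h3] at h1
  have h5 := finrank_add (u := rep (g ^ 14)) (r := 2) (by norm_num) (rep_pow h2)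
  rw [finrank_Sp] at h5
  have h6 : fd (g ^ 14) = finrank ℚ (fix (rep (g ^ 14))) := rfl
  have h8 : finrank ℚ (mv (rep (g ^ 14)) 2 ⊓ mv (rep (g ^ 4)) 7 : Submodule ℚ Sp) ≤ finrank ℚ (mv (rep (g ^ 14)) 2) :=
    Submodule.finrank_mono inf_le_left
  have h9 := mv_le_fix_of_inf (by norm_num) (rep_pow h7) hc2
    (Submodule.finrank_eq_zero.1
      (show finrank ℚ (mv (rep (g ^ 14)) 2 ⊓ mv (rep (g ^ 4)) 7 : Submodule ℚ Sp) = 0 by omega))
  have h10 := Submodule.finrank_mono h9
  have h11 := fix_le_seven h7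
  omega

/-! ### `McL` -/

theorem two_fd {g : Co0} (hg : g * g = 1) : (tr8 g : ℚ) = 8 * (2 * (fd g : ℚ) - 24) := by
  have h2 : rep g ^ 2 = 1 := by rw [← map_pow, pow_two, hg, map_one]
  have h := trace_nr (p := 2) (by norm_num) h2
  have h3 : nr (rep g) 2 = 1 + rep g := by
    unfold nr
    rw [Finset.sum_range_succ, Finset.sum_range_one, pow_zero, pow_one]
  rw [h3, map_add, SigZeroCo2.Lin.trace_one, trace_rep] at h
  have h4 : (fd g : ℚ) = (finrank ℚ (fix (rep g)) : ℚ) := rfl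
  rw [h4]
  push_cast at h
  linarith

open Cfsg.Agent.SporadicA.OctadFix Cfsg.Agent.UGT.End.Octad in
/-- **the involutions of `McL`** -/
theorem mcl_sixteen {N : Type*} [Group N] (h : Spor.IsoMcL N) {φ : N →* Co0} (hφ : Function.Injective φ)
    {v : leechLattice} (hv : v ≠ 0) (hfix : ∀ g, φ g • v = v) {t : N} (ht : orderOf t = 2) : fd (φ t) = 16 := by
  classical
  obtain ⟨-, -, -, ⟨L⟩⟩ := Cfsg.Agent.TypeM.FactsMcL.facts h
  have hsq : ∀ s : N, orderOf s = 2 → s * s = 1 ∧ s ≠ 1 := fun s hs =>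
    ⟨by rw [← pow_two, ← hs, pow_orderOf_eq_one], fun h1 => by rw [h1, orderOf_one] at hs; omega⟩
  have hconst : ∀ s : N, s * s = 1 → s ≠ 1 → fd (φ s) = fd (φ t) := by
    intro s hs hs1
    obtain ⟨g, hg⟩ := L.conj_of_involutions (hsq t ht).1 (hsq t ht).2 hs hs1
    rw [← hg, map_mul, map_mul, map_inv, fd_conj]
  have hO := Cfsg.Agent.SporadicStructure.M24Frame.stdOctad_mem
  obtain ⟨e⟩ := h
  have h0 : (none : GolayPt) ∈ Cfsg.Agent.SporadicStructure.M24Frame.stdOctad :=
    Cfsg.Agent.SporadicStructure.M24Frame.base6_mem 0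
  have h1 : (some 0 : GolayPt) ∈ Cfsg.Agent.SporadicStructure.M24Frame.stdOctad :=
    Cfsg.Agent.SporadicStructure.M24Frame.base6_mem 1
  set A := fixOct Cfsg.Agent.SporadicStructure.M24Frame.stdOctad with hA
  have hle : A ≤ Spor.M22 := by
    intro g hg
    obtain ⟨hg1, hg2⟩ := mem_fixOct.1 hg
    exact ⟨⟨hg1, hg2 _ h0⟩, hg2 _ h1⟩
  let ψ : A →* Co0 := φ.comp (e.symm.toMonoidHom.comp (Cfsg.Agent.H45.Thin.Leech.embM.comp (Subgroup.inclusion hle)))
  let ψ' : A →* N := e.symm.toMonoidHom.comp (Cfsg.Agent.H45.Thin.Leech.embM.comp (Subgroup.inclusion hle))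
  have hψ' : Function.Injective ψ' := e.symm.injective.comp
    (Cfsg.Agent.H45.Thin.Leech.embM_injective.comp (Subgroup.inclusion_injective hle))
  have hAc : Nat.card A = 16 := card_fixOct hO
  have hAf : Finite A := Nat.finite_of_card_ne_zero (by rw [hAc]; norm_num)
  have := Fintype.ofFinite A
  obtain ⟨c, hc⟩ := Cfsg.Agent.H831.FF.exists_sum ψ
  have hval : ∀ a : A, a ≠ 1 → (tr8 (ψ a) : ℚ) = 8 * (2 * (fd (φ t) : ℚ) - 24) := by
    intro a ha
    have h2 : a * a = 1 := Subtype.ext (fixOct_sq hO a.2)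
    have h3 : ψ' a * ψ' a = 1 := by rw [← map_mul, h2, map_one]
    have h4 : ψ' a ≠ 1 := fun h5 => ha (hψ' (by rw [h5, map_one]))
    have h5 : ψ a = φ (ψ' a) := rfl
    rw [h5, two_fd (by rw [← map_mul, h3, map_one]), hconst _ h3 h4]
  have hsum : ((∑ a : A, tr8 (ψ a) : ℤ) : ℚ) = 192 + 15 * (8 * (2 * (fd (φ t) : ℚ) - 24)) := by
    push_cast
    rw [← Finset.add_sum_erase Finset.univ _ (Finset.mem_univ (1 : A)), map_one, SigZeroCo2.Lin.tr8_one,
      Finset.sum_congr rfl fun a ha => hval a (Finset.ne_of_mem_erase ha), Finset.sum_const,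
      Finset.card_erase_of_mem (Finset.mem_univ _), Finset.card_univ, ← Nat.card_eq_fintype_card, hAc, nsmul_eq_mul]
    norm_num
  rw [hc, hAc] at hsum
  have hdt := BpSpor.Co2.Five.dims_two (t := φ t) (by rw [← map_mul, (hsq t ht).1, map_one])
    (fun h5 => (hsq t ht).2 (hφ (by rw [h5, map_one])))
  have h6 : fd (φ t) = finrank ℚ (fix (rep (φ t))) := rfl
  have h7 := fd_pos hv (hfix t)
  have h8 : (8 * (c * 16) : ℤ) = 192 + 15 * (8 * (2 * (fd (φ t) : ℤ) - 24)) := by
    have h9 : ((8 * (c * 16) : ℤ) : ℚ) = ((192 + 15 * (8 * (2 * (fd (φ t) : ℤ) - 24)) : ℤ) : ℚ) := by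
      push_cast at hsum ⊢
      linarith
    exact_mod_cast h9
  omega

/-! ### the element of order 30 -/

section thirty

open Cfsg.Agent.SporadicA.GolayBase Cfsg.Agent.SporadicA.Co0Mono Cfsg.Agent.Leech.Basic
open Cfsg.Agent.SporadicA.GolayPerm (papp isPerm isAut)
open Cfsg.Agent.J4Type.CocodeMask (mk isTab_mk IsTab)
open Cfsg.Agent.H180.KMathieu (ordOk orderOf_tab)
open Cfsg.Agent.H870.Der.CoTwo

theorem tab_pow (k : ℕ) (p : GolayPt) :
    idx (((mk P15 ok15 ^ k : M24) : Equiv.Perm GolayPt) p) = (papp P15)^[k] (idx p) := by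
  induction k with
  | zero => rfl
  | succ k ih =>
    rw [pow_succ', Subgroup.coe_mul, Equiv.Perm.mul_apply, isTab_mk P15 ok15, ih, Function.iterate_succ_apply']

theorem card_fixed30 : Nat.card (MulAction.fixedBy GolayPt (mk P15 ok15 ^ 6)) = 4 := by
  classical
  have h : ∀ p : GolayPt, p ∈ MulAction.fixedBy GolayPt (mk P15 ok15 ^ 6) ↔ (papp P15)^[6] (idx p) = idx p := by
    intro p
    rw [MulAction.mem_fixedBy]
    have h1 := tab_pow 6 p
    constructor
    · intro h2
      rw [← h1]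
      exact congrArg idx h2
    · intro h2
      rw [← h1] at h2
      exact idx_injective h2
  rw [Nat.card_eq_fintype_card, Fintype.card_subtype]
  rw [Finset.filter_congr fun p _ => h p]
  decide +kernel

/-- **the element of order 30** -/
theorem exists_30 : ∃ x : Spor.Co2, orderOf x = 30 ∧ fd (f2 (x ^ 6)) = 8 := by
  have o15 : orderOf (mk P15 ok15) = 15 := orderOf_tab (isTab_mk _ _) (by decide +kernel)
  set a := permCo0 (mk P15 ok15) with ha
  set b := signCo0 ⟨word 16771936, code_e30⟩ with hb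
  have hc : Commute a b := commute_of_inv (wordPerm_eq (isTab_mk _ _) (by decide +kernel) _ _)
  have h2 : orderOf b = 2 := orderOf_sign (word_ne _ (pt 5) (by decide +kernel))
  have ho : orderOf (a * b) = 30 := by
    rw [hc.orderOf_mul_eq_mul_orderOf_of_coprime (by rw [ha, orderOf_perm o15, h2]; norm_num), ha, orderOf_perm o15, h2]
  have hv : (a * b) • vA = vA := by
    rw [mul_smul]
    show permCo0 _ • (signCo0 _ • (⟨vec mA, vecA_mem⟩ : leechLattice)) = ⟨vec mA, vecA_mem⟩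
    rw [sign_smul_vec _ _ (by decide +kernel), perm_smul_vec (isTab_mk _ _) (by decide +kernel)]
  -- the sixth power
  have h6 : (a * b) ^ 6 = permCo0 (mk P15 ok15 ^ 6) := by
    rw [hc.mul_pow, ha, ← map_pow]
    have h3 : b ^ 6 = 1 := by
      rw [show 6 = 2 * 3 by norm_num, pow_mul, ← h2, pow_orderOf_eq_one, one_pow]
    rw [h3, mul_one]
  have h5 : orderOf ((a * b) ^ 6) = 5 := by rw [orderOf_pow_of_dvd (by norm_num) (by rw [ho]; norm_num), ho]
  have h8 : fd ((a * b) ^ 6) = 8 := by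
    have h7 := CoFive.Dims.five_finrank h5
    rw [h6, H419.LeechFix.tr8_perm, card_fixed30] at h7
    have h9 : (fd ((a * b) ^ 6) : ℚ) = (8 : ℕ) := by
      have h10 : (fd ((a * b) ^ 6) : ℚ) = (finrank ℚ (fix (rep (permCo0 (mk P15 ok15 ^ 6)))) : ℚ) := by rw [h6]; rfl
      rw [h10]
      push_cast at h7 ⊢
      linarith
    exact_mod_cast h9
  -- the conjugate in the stabilizer
  have hu : sqNorm ((Spor.leechU : leechLattice) : GolayPt → ℤ) = 32 := by
    show sqNorm Spor.vecU = 32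
    decide +kernel
  obtain ⟨h, hh⟩ := S0400.result vA Spor.leechU norm_vA hu
  have hfix : (h * (a * b) * h⁻¹) • Spor.leechU = Spor.leechU := by
    rw [← hh, mul_smul, mul_smul, inv_smul_smul, hv]
  refine ⟨⟨(h * (a * b) * h⁻¹).1, (h * (a * b) * h⁻¹).2, hfix⟩, ?_, ?_⟩
  · rw [← orderOf_injective f2 f2_inj]
    have h11 : f2 ⟨(h * (a * b) * h⁻¹).1, (h * (a * b) * h⁻¹).2, hfix⟩ = h * (a * b) * h⁻¹ := rfl
    rw [h11, ← ho]
    exact orderOf_injective (MulAut.conj h).toMonoidHom (MulAut.conj h).injective _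
  · rw [map_pow]
    have h11 : f2 ⟨(h * (a * b) * h⁻¹).1, (h * (a * b) * h⁻¹).2, hfix⟩ = h * (a * b) * h⁻¹ := rfl
    rw [h11, conj_pow, fd_conj, h8]

end thirty

end Cfsg.Agent.H461.Cov.CoTwo
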