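import Cfsg.Agent.H461.Cov.CoTwoLin
import Cfsg.Agent.H870.Der.CoTwoRow
import Cfsg.Agent.H385.SpNine
import Cfsg.Agent.H547.Der.FourRow
import Cfsg.Agent.NotCT.Orders

/-!
# S2499, Co2: the subgroups of order divisible by 23 (helper461)

From helper149's and helper870's rows of `Co2`.
-/

set_option autoImplicit false

namespace Cfsg.Agent.H461.Cov.CoTwo

open Subgroup Cfsg
open Cfsg.Agent.OrdDiv Cfsg.Agent.H257.El Cfsg.Agent.H439.Der
open Cfsg.Agent.H149.Sp (fd P5)
open Cfsg.Agent.H149.Sp.CopCo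
open Cfsg.Agent.H149.Der
open Cfsg.Agent.H149.Der.Two
open Cfsg.Agent.H870.Der (exists_of_top)
open Cfsg.Agent.H870.Der.CoTwo (card_co2 noOrd23 exists30 exists28 not_sc23 l)

/-- the subgroups of order divisible by 23 and by `s ^ k` -/
theorem iso_aux (tab : OrderTable.{0}) (known : Known.{0}) {R : Subgroup Spor.Co2} (hR : R ≠ ⊤)
    (h23 : 23 ∣ Nat.card R) {s k : ℕ} (hA : Adm Spor.Co2 42305421312000 l 23 R s k)
    (hs : surv 42305421312000 l 23 [s ^ k] = [.m23, .m24]) : Spor.IsoM23 R ∨ Spor.IsoM24 R := by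
  have hfin := finite_co2
  have hRn : Nat.card R ∣ 42305421312000 := by
    rw [← card_co2]
    exact Subgroup.card_subgroup_dvd_card R
  obtain ⟨O, hO, N, g, ht, hna, hg, hr, hgc⟩ := exists_name tab known card_co2 valid2 (r := 23) (by norm_num)
    (by decide +kernel) hR h23 (ss := [(s, k)]) (by simp) (by
      intro t ht
      rw [List.mem_singleton] at ht
      rw [ht]
      exact hA)
  rw [List.map_singleton, hs] at hg
  have h11N : 11 ∣ Nat.card N := by
    simp only [List.mem_cons, List.not_mem_nil, or_false] at hg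
    rcases hg with rfl | rfl
    · rw [hgc]; decide +kernel
    · rw [hgc]; decide +kernel
  have h11O : ¬ 11 ∣ Nat.card O := ht.not_dvd_core (by norm_num) (by norm_num) (SitA.noR (noOrd23 (by norm_num)
    (by norm_num))) fun _ hb hd => okPow_spec valid2 (by decide +kernel) (by norm_num) hb (hd.trans hRn)
  have hO1 : ∀ s : ℕ, s.Prime → ¬ s ∣ Nat.card O := by
    intro s hs hsO
    have hrs : 23 ≠ s := by
      rintro rfl
      exact ht.core hsO
    by_cases hs2 : s = 2
    · subst hs2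
      obtain ⟨b, hb1, hb, hb2, hb3⟩ := core_pow O (r := 23) (s := 2) (by norm_num) (by norm_num) (by norm_num) h23
        ht.core hsO (SitA.noR (noOrd23 (by norm_num) (by norm_num)))
      obtain ⟨c, hc1, hc, hc2, hc3⟩ := core_pow O (r := 11) (s := 2) (by norm_num) (by norm_num) (by norm_num) (by
          rw [← core_mul_dvd N]
          exact (h11N.trans (dvd_mul_left _ _)).trans (dvd_mul_right _ _))
        h11O hsO (SitA.noR (noOrd_of_noComm (by norm_num) (by norm_num) fun a b ha hb h =>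
          H537.Cop.CB.ne co2_2_11 b a hb ha h.symm))
      have hbc : b = c := by
        apply le_antisymm
        · by_contra h
          exact hc3 ((pow_dvd_pow 2 (by omega)).trans hb)
        · by_contra h
          exact hb3 ((pow_dvd_pow 2 (by omega)).trans hc)
      subst hbc
      have hb18 : b ≤ 18 := by
        by_contra h
        have h1 : 2 ^ 19 ∣ 42305421312000 := ((pow_dvd_pow 2 (by omega)).trans hb).trans
          ((Subgroup.card_subgroup_dvd_card O).trans hRn)
        norm_num at h1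
      interval_cases b <;> omega
    obtain ⟨k, hk, -⟩ := exists_pair valid2 hs le_rfl (by
      rw [pow_one]
      exact (hsO.trans (Subgroup.card_subgroup_dvd_card O)).trans hRn)
    have h1 : (l.all fun x => Nat.beq x.1 23 || Nat.beq x.1 2 || okPow l 23 x.1) = true := by decide +kernel
    rw [List.all_eq_true] at h1
    have h2 := h1 _ hk
    rw [Bool.or_eq_true, Bool.or_eq_true] at h2
    rcases h2 with (h2 | h2) | h2
    · exact hrs (Nat.eq_of_beq_eq_true h2).symm
    · exact hs2 (Nat.eq_of_beq_eq_true h2)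
    · exact ht.not_dvd_core hs hrs (SitA.noR (noOrd23 hs hrs)) (fun _ hb hd => okPow_spec valid2 h2 hs hb
        (hd.trans hRn)) hsO
  have hb := H870.Der.eq_bot_of_not_dvd hO1
  subst hb
  have e1 : R ≃* R ⧸ (⊥ : Subgroup R) := QuotientGroup.quotientBot.symm
  have key : Nat.card (Cfsg.Out N) = 1 → Nonempty (R ≃* N) := by
    intro hOut
    have h1 := H870.Der.eq_top_of_out ht hna hOut
    have e2 : N ≃* R ⧸ (⊥ : Subgroup R) := (MulEquiv.subgroupCongr h1).trans Subgroup.topEquiv
    exact ⟨e1.trans e2.symm⟩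
  simp only [List.mem_cons, List.not_mem_nil, or_false] at hg
  rcases hg with rfl | rfl
  · have hr : Spor.IsoM23 N := hr
    obtain ⟨f⟩ := key (H870.Der.out_m23 hr)
    obtain ⟨e⟩ := hr
    exact Or.inl ⟨f.trans e⟩
  · have hr : Spor.IsoM24 N := hr
    obtain ⟨f⟩ := key (H870.Der.out_m24 hr)
    obtain ⟨e⟩ := hr
    exact Or.inr ⟨f.trans e⟩

theorem surv_5 : surv 42305421312000 l 23 [5 ^ 1] = [.m23, .m24] := by decide +kernel
theorem surv_7 : surv 42305421312000 l 23 [7 ^ 1] = [.m23, .m24] := by decide +kernel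
theorem surv_9 : surv 42305421312000 l 23 [3 ^ 2] = [.m23, .m24] := by decide +kernel

/-- **the subgroups of order divisible by 23** -/
theorem iso_23 (tab : OrderTable.{0}) (known : Known.{0}) {R : Subgroup Spor.Co2} (hR : R ≠ ⊤)
    (h23 : 23 ∣ Nat.card R) (h : 5 ∣ Nat.card R ∨ 7 ∣ Nat.card R ∨ 9 ∣ Nat.card R) :
    Spor.IsoM23 R ∨ Spor.IsoM24 R := by
  rcases h with h | h | h
  · exact iso_aux tab known hR h23 (s := 5) (k := 1) (adm (by norm_num) (by norm_num) (by norm_num; exact h)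
      (noOrd23 (by norm_num) (by norm_num)) (by decide +kernel)) surv_5
  · exact iso_aux tab known hR h23 (s := 7) (k := 1) (adm (by norm_num) (by norm_num) (by norm_num; exact h)
      (noOrd23 (by norm_num) (by norm_num)) (by decide +kernel)) surv_7
  · exact iso_aux tab known hR h23 (s := 3) (k := 2) (adm (by norm_num) (by norm_num) (by norm_num; exact h)
      (noOrd23 (by norm_num) (by norm_num)) (by decide +kernel)) surv_9

theorem no_28 (tab : OrderTable.{0}) (known : Known.{0}) {R : Subgroup Spor.Co2} (hR : R ≠ ⊤)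
    (h23 : 23 ∣ Nat.card R) : ∀ m ∈ R, orderOf m ≠ 28 := by
  intro m hm hmo
  have h7 : 7 ∣ Nat.card R := by
    have h1 := Subgroup.orderOf_dvd_natCard R hm
    rw [hmo] at h1
    exact (by norm_num : 7 ∣ 28).trans h1
  rcases iso_23 tab known hR h23 (Or.inr (Or.inl h7)) with h | h
  · exact H870.Der.MTF.not_m23 h H870.Der.MTF.no28 ⟨m, hm⟩ (by rw [Subgroup.orderOf_mk, hmo])
  · exact H870.Der.MTF.not_m24 h H870.Der.MTF.no28 ⟨m, hm⟩ (by rw [Subgroup.orderOf_mk, hmo])

theorem no_30 (tab : OrderTable.{0}) (known : Known.{0}) {R : Subgroup Spor.Co2} (hR : R ≠ ⊤)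
    (h23 : 23 ∣ Nat.card R) : ∀ m ∈ R, orderOf m ≠ 30 := by
  intro m hm hmo
  have h7 : 5 ∣ Nat.card R := by
    have h1 := Subgroup.orderOf_dvd_natCard R hm
    rw [hmo] at h1
    exact (by norm_num : 5 ∣ 30).trans h1
  rcases iso_23 tab known hR h23 (Or.inl h7) with h | h
  · exact H870.Der.MTF.not_m23 h H870.Der.MTF.no30 ⟨m, hm⟩ (by rw [Subgroup.orderOf_mk, hmo])
  · exact H870.Der.MTF.not_m24 h H870.Der.MTF.no30 ⟨m, hm⟩ (by rw [Subgroup.orderOf_mk, hmo])

theorem no_9 (tab : OrderTable.{0}) (known : Known.{0}) {R : Subgroup Spor.Co2} (hR : R ≠ ⊤)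
    (h23 : 23 ∣ Nat.card R) : ∀ m ∈ R, orderOf m ≠ 9 := by
  intro m hm hmo
  have h9 : 9 ∣ Nat.card R := by
    have h1 := Subgroup.orderOf_dvd_natCard R hm
    rwa [hmo] at h1
  rcases iso_23 tab known hR h23 (Or.inr (Or.inr h9)) with h | h
  · exact Cfsg.Agent.H385.Sp.m23_nine h ⟨⟨m, hm⟩, by rw [Subgroup.orderOf_mk, hmo]⟩
  · exact Cfsg.Agent.H385.Sp.m24_nine h ⟨⟨m, hm⟩, by rw [Subgroup.orderOf_mk, hmo]⟩

/-- 11 is isolated -/
theorem iso_11 : ∀ p : ℕ, p.Prime → 11 ≠ p → ∀ z : Spor.Co2, orderOf z ≠ 11 * p := by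
  have hfin := finite_co2
  intro p hp hne z hz
  have hd : p ∣ 42305421312000 := by
    rw [← card_co2]
    exact (dvd_mul_left p 11).trans (hz ▸ _root_.orderOf_dvd_natCard z)
  obtain ⟨k, hk, -⟩ := exists_pair valid2 hp le_rfl (by rw [pow_one]; exact hd)
  simp only [l, List.mem_cons, Prod.mk.injEq, List.not_mem_nil, or_false] at hk
  rcases hk with ⟨rfl, -⟩ | ⟨rfl, -⟩ | ⟨rfl, -⟩ | ⟨rfl, -⟩ | ⟨rfl, -⟩ | ⟨rfl, -⟩
  · exact H663.ObCo2.not22 z hz
  · have ho : ∀ g : Spor.Co2, orderOf (f2 g) = orderOf g := orderOf_injective f2 f2_inj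
    have h11 : orderOf (z ^ 3) = 11 := by rw [orderOf_pow_of_dvd (by norm_num) (by rw [hz]; norm_num), hz]
    have h3 : orderOf (z ^ 11) = 3 := by rw [orderOf_pow_of_dvd (by norm_num) (by rw [hz]; norm_num), hz]
    exact ne_eleven ((ho _).trans h11) ((ho _).trans h3) leechU_ne (f2_fix _)
      (((Commute.refl z).pow_pow 3 11).map f2)
  · exact no2 (Or.inr (Or.inr (Or.inl rfl))) (Or.inl rfl) (by norm_num) z hz
  · exact no2 (Or.inr (Or.inr (Or.inl rfl))) (Or.inr (Or.inl rfl)) (by norm_num) z hz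
  · exact hne rfl
  · exact no2 (Or.inr (Or.inr (Or.inl rfl))) (Or.inr (Or.inr (Or.inr (Or.inr rfl)))) (by norm_num) z hz

/-- **the elements of order five of a subgroup of order divisible by 23** -/
theorem fd_five_23 (tab : OrderTable.{0}) (known : Known.{0}) {R : Subgroup Spor.Co2} (hR : R ≠ ⊤)
    (h23 : 23 ∣ Nat.card R) : ∀ m ∈ R, orderOf m = 5 → fd (f2 m) = 8 := by
  have hfin := finite_co2
  intro m hm hmo
  have h5 : 5 ∣ Nat.card R := by
    have h1 := Subgroup.orderOf_dvd_natCard R hm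
    rwa [hmo] at h1
  have hc : (Nat.card R = 10200960) ∨ (Nat.card R = 244823040) := by
    rcases iso_23 tab known hR h23 (Or.inl h5) with h | h
    · exact Or.inl (NotCT.Orders.m23 h)
    · exact Or.inr (NotCT.Orders.m24 h)
  have h11 : 11 ∣ Nat.card R := by rcases hc with h | h <;> rw [h] <;> norm_num
  have h121 : ¬ 11 ^ 2 ∣ Nat.card R := by rcases hc with h | h <;> rw [h] <;> norm_num
  have h25 : ¬ 5 ^ 2 ∣ Nat.card R := by rcases hc with h | h <;> rw [h] <;> norm_num
  have hf11 : Fact (Nat.Prime 11) := ⟨by norm_num⟩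
  have hf5 : Fact (Nat.Prime 5) := ⟨by norm_num⟩
  obtain ⟨z, hz⟩ := exists_prime_orderOf_dvd_card' (G := R) 11 h11
  have hcz : Nat.card (centralizer ({z} : Set R)) = 11 :=
    card_cent_of_noOrd (by norm_num) h121 (fun p hp hne w hw => iso_11 p hp hne (w : Spor.Co2) (by
      rw [Subgroup.orderOf_coe, hw])) hz
  have hn := (card_norm_mod (by norm_num) h121 (by rcases hc with h | h <;> rw [h] <;> norm_num) hcz).1
  have h5n : 5 ∣ Nat.card (normalizer ((zpowers z : Subgroup R) : Set R)) := by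
    rw [hn]
    rcases hc with h | h <;> rw [h] <;> norm_num
  obtain ⟨⟨x, hxn⟩, hx⟩ := exists_prime_orderOf_dvd_card' 5 h5n
  rw [Subgroup.orderOf_mk] at hx
  have hne : x * z ≠ z * x := by
    intro h
    have h1 : x ∈ centralizer ({z} : Set R) := mem_centralizer_singleton_iff.2 h
    have h2 := Subgroup.orderOf_dvd_natCard _ h1
    rw [hcz, hx] at h2
    norm_num at h2
  have hnx : ∀ w ∈ zpowers z, x⁻¹ * w * x ∈ zpowers z := by
    intro w hw
    have h1 := (mem_normalizer_iff.1 (inv_mem hxn) w).1 hw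
    rwa [inv_inv] at h1
  have h8 := fd_eight (φ := f2.comp R.subtype) (f2_inj.comp R.subtype_injective) leechU_ne (fun g => f2_fix _) hx hz
    hnx hne
  have h8' : fd (f2 (x : Spor.Co2)) = 8 := h8
  -- conjugacy of the subgroups of order five
  by_contra hcon
  have ho : ∀ g : Spor.Co2, orderOf (f2 g) = orderOf g := orderOf_injective f2 f2_inj
  have hxo : orderOf (x : Spor.Co2) = 5 := by rw [Subgroup.orderOf_coe, hx]
  rcases H547.Der.miss_or (p := 5) (by norm_num) h25 (x := (x : Spor.Co2)) (y := m) hxo hmo (fun g hg => by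
    apply hcon
    have h1 : f2 (g * x * g⁻¹) ∈ zpowers (f2 m) := by
      obtain ⟨k, hk⟩ := mem_zpowers_iff.1 hg
      exact mem_zpowers_iff.2 ⟨k, by rw [← hk, map_zpow]⟩
    have h2 := fd_of_zpowers (p := 5) (by norm_num) ((ho m).trans hmo) ((ho _).trans (by
      rw [← hxo]
      exact orderOf_injective (MulAut.conj g).toMonoidHom (MulAut.conj g).injective _)) h1
    rw [map_mul, map_mul, map_inv, fd_conj, h8'] at h2
    exact h2.symm) with h | h
  · exact h 1 (by simpa using x.2)
  · exact h 1 (by simpa using hm)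

end Cfsg.Agent.H461.Cov.CoTwo
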