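import Cfsg.Agent.H966.Der.HS
import Cfsg.Agent.S1606
import Cfsg.Agent.H19.Cyc.MatMo
import Cfsg.Agent.H561.PPRowL
import Cfsg.Agent.H257.El.TopB
import Cfsg.Agent.H278.Cov.Defs

/-!
# S2499, HS: the subgroups of order divisible by 11 or 7 (helper461)

From helper966's row of `HS` (S3500).
-/

set_option autoImplicit false

namespace Cfsg.Agent.H461.Cov.HS

open Subgroup Cfsg
open Cfsg.Agent.OrdDiv Cfsg.Agent.H257.El Cfsg.Agent.H439.Der Cfsg.Agent.H938.Sax Cfsg.Agent.H966.Der
open Cfsg.Agent.H966.Der.HS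

universe u

theorem m11_no15 {S : Type*} [Group S] (h : Spor.IsoM11 S) (z : S) : orderOf z ≠ 15 := by
  intro hz
  have h1 := Cfsg.Agent.H180.KM11.orders h z
  rw [hz] at h1
  simp at h1

theorem l11_no15 {S : Type*} [Group S] (h : Real (.psl 2 11) S) (z : S) : orderOf z ≠ 15 := by
  obtain ⟨F, _, _, hF, ⟨e⟩⟩ := h
  intro hz
  exact Cfsg.Agent.H561.PPow.orderOf_ne_fifteen hF (e z) (by rw [MulEquiv.orderOf_eq, hz])

section

variable {T : Type u} [Group T] (tab : OrderTable.{u}) (known : Known.{u})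

include tab known

/-- the core at 11 is trivial -/
theorem core_bot (h : Spor.IsoHS T) {M : Subgroup T} (hM : M ≠ ⊤) (h11 : 11 ∣ Nat.card M) :
    ∃ (_ : Finite T) (_ : Cfsg.Agent.H966.Der.Sit T 44352000 l 11 M) (N : Subgroup (M ⧸ (⊥ : Subgroup M))),
      Top M 11 (⊥ : Subgroup M) N := by
  have hfin := finite h
  have hc := Cfsg.Agent.KFacts.HS.card h
  have S : Cfsg.Agent.H966.Der.Sit T 44352000 l 11 M := ⟨tab, known, hc, valid_l, by norm_num, by norm_num, h11, hM⟩
  obtain ⟨O, hO, N, hT⟩ := S.exists_top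
  have key : ∀ s : ℕ, s.Prime → s ∣ Nat.card O → False := by
    intro s hs hsO
    have hn : Nat.card O ∣ 44352000 := by
      have h1 : Nat.card O ∣ Nat.card M := Subgroup.card_subgroup_dvd_card O
      exact h1.trans S.dvd_n
    have h2 : s ∣ 2 ^ 9 * 3 ^ 2 * 5 ^ 3 * 7 * 11 := hsO.trans (hn.trans (dvd_of_eq (by norm_num)))
    have hb : ∀ (p k : ℕ), p.Prime → ¬ p ^ (k + 1) ∣ 44352000 → (∀ b < k, p ^ (b + 1) % 11 ≠ 1) → p ≠ 11 →
        ¬ p ∣ Nat.card O := by
      intro p k hp hk hord hp11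
      refine not_dvd_core' hT hp (Ne.symm hp11)
        (Cfsg.Agent.H257.El.Sit.noR (iso_11 h p hp (Ne.symm hp11))) fun b hb hd => ?_
      have h5 : b ≤ k := by
        by_contra hcon
        exact hk ((pow_dvd_pow p (by omega)).trans (hd.trans hn))
      obtain ⟨b', rfl⟩ : ∃ b', b = b' + 1 := ⟨b - 1, by omega⟩
      exact hord b' (by omega)
    have hpp : ∀ {p k : ℕ}, p.Prime → s ∣ p ^ k → s = p := fun hp hd =>
      (Nat.prime_dvd_prime_iff_eq hs hp).1 (hs.dvd_of_dvd_pow hd)
    rw [hs.dvd_mul, hs.dvd_mul, hs.dvd_mul, hs.dvd_mul] at h2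
    rcases h2 with (((h2 | h2) | h2) | h2) | h2
    · rw [hpp (by norm_num) h2] at hsO
      exact hb 2 9 (by norm_num) (by norm_num) (by decide) (by norm_num) hsO
    · rw [hpp (by norm_num) h2] at hsO
      exact hb 3 2 (by norm_num) (by norm_num) (by decide) (by norm_num) hsO
    · rw [hpp (by norm_num) h2] at hsO
      exact hb 5 3 (by norm_num) (by norm_num) (by decide) (by norm_num) hsO
    · rw [(Nat.prime_dvd_prime_iff_eq hs (by norm_num)).1 h2] at hsO
      exact hb 7 1 (by norm_num) (by norm_num) (by decide) (by norm_num) hsO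
    · rw [(Nat.prime_dvd_prime_iff_eq hs (by norm_num)).1 h2] at hsO
      exact hT.core hsO
  have hO1 : O = ⊥ := by
    rw [← Subgroup.card_eq_one]
    by_contra hne
    obtain ⟨s, hs, hd⟩ := Nat.exists_prime_and_dvd hne
    exact key s hs hd
  subst hO1
  exact ⟨hfin, S, N, hT⟩

/-- the subgroups of order divisible by 77 -/
theorem m22_of (h : Spor.IsoHS T) {M : Subgroup T} (hM : M ≠ ⊤) (h11 : 11 ∣ Nat.card M) (h7 : 7 ∣ Nat.card M) :
    Nat.card M = 443520 ∧ Spor.IsoM22 M := by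
  obtain ⟨hfin, S, N, hT⟩ := core_bot tab known h hM h11
  have hNn := hT.normal
  have hd := S.dvd_simple hT (s := 7) (by norm_num) (iso_11 h 7 (by norm_num) (by norm_num)) (by decide +kernel) h7
  have hna := Cfsg.Agent.H257.El.Sit.not_comm_of_dvd hT (by norm_num) (by norm_num) hd
  obtain ⟨g, hg, hr, hgc⟩ := S.exists_surv hT hna [7] (by simpa using hd)
  have hg' := mem_of_chkSurv (L := [.m22]) (by decide +kernel) hg
  rw [List.mem_singleton] at hg'
  subst hg'
  have hgc' : Nat.card N = 443520 := hgc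
  have hi := S.index_dvd hT (iso_11 h) (by rw [hgc']; norm_num)
  rw [hgc'] at hi
  norm_num at hi
  have hi := eq_one_of_mul_dvd (by norm_num) hi
  have e1 : M ≃* M ⧸ (⊥ : Subgroup M) := QuotientGroup.quotientBot.symm
  have hN : N = ⊤ := Subgroup.index_eq_one.1 hi
  subst hN
  have e2 : (⊤ : Subgroup (M ⧸ (⊥ : Subgroup M))) ≃* M ⧸ (⊥ : Subgroup M) := Subgroup.topEquiv
  refine ⟨?_, ?_⟩
  · rw [Nat.card_congr (e1.trans e2.symm).toEquiv, hgc']
  · obtain ⟨f⟩ : Spor.IsoM22 (⊤ : Subgroup (M ⧸ (⊥ : Subgroup M))) := hr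
    exact ⟨(e1.trans e2.symm).trans f⟩

/-- the subgroups of order divisible by 11 but not by 7 -/
theorem no_seven (h : Spor.IsoHS T) {M : Subgroup T} (hM : M ≠ ⊤) (h11 : 11 ∣ Nat.card M) (h7 : ¬ 7 ∣ Nat.card M) :
    (∀ m ∈ M, orderOf m ≠ 15) ∧ (Nat.card M ∣ 110 ∨ Nat.card M = 660 ∨ Nat.card M = 7920) := by
  obtain ⟨hfin, S, N, hT⟩ := core_bot tab known h hM h11
  have hNn := hT.normal
  have e1 : M ≃* M ⧸ (⊥ : Subgroup M) := QuotientGroup.quotientBot.symm
  have hcM : Nat.card M = Nat.card N * N.index := by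
    rw [Subgroup.card_mul_index, Nat.card_congr e1.toEquiv]
  by_cases hna : ∀ a b : N, a * b = b * a
  · have h1 := hT.card_of_comm hna
    have h2 := hT.index_dvd_of_comm hna
    have h3 : Nat.card M ∣ 110 := by
      rw [hcM, h1]
      exact Nat.mul_dvd_mul_left 11 h2
    refine ⟨fun m hm hmo => ?_, Or.inl h3⟩
    have h4 := Subgroup.orderOf_dvd_natCard M hm
    rw [hmo] at h4
    exact absurd (h4.trans h3) (by norm_num)
  · obtain ⟨g, hg, hr, hgc⟩ := S.exists_surv hT hna [] (by simp)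
    have hg' := mem_of_chkSurv (L := [.psl 2 11, .m11, .m22]) (by decide +kernel) hg
    have hNM : Nat.card N ∣ Nat.card M := ⟨_, hcM⟩
    have h15 : ∀ z : N, orderOf z ≠ 15 := by
      simp only [List.mem_cons, List.not_mem_nil, or_false] at hg'
      rcases hg' with rfl | rfl | rfl
      · exact l11_no15 hr
      · exact m11_no15 hr
      · intro z
        exact no_m22 hr (k := 3) (by norm_num) z
    have hcard : Nat.card N = 660 ∨ Nat.card N = 7920 := by
      simp only [List.mem_cons, List.not_mem_nil, or_false] at hg'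
      rcases hg' with rfl | rfl | rfl
      · left; rw [hgc]; decide +kernel
      · right; rw [hgc]; rfl
      · exfalso
        apply h7
        refine dvd_trans ?_ hNM
        rw [hgc]
        exact ⟨63360, rfl⟩
    have hi := S.index_dvd hT (iso_11 h) (by rcases hcard with h1 | h1 <;> rw [h1] <;> norm_num)
    have hi1 : N.index = 1 := by
      rcases hcard with h1 | h1
      · rw [h1] at hi
        norm_num at hi
        exact eq_one_of_mul_dvd (by norm_num) hi
      · rw [h1] at hi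
        norm_num at hi
        exact eq_one_of_mul_dvd (by norm_num) hi
    rw [hi1, mul_one] at hcM
    refine ⟨fun m hm hmo => ?_, Or.inr (by rw [hcM]; exact hcard)⟩
    obtain ⟨w, hw⟩ := Cfsg.Agent.H966.Der.Sit.exists_of_coprime hm (O := (⊥ : Subgroup M)) (N := N)
      (by rw [Subgroup.card_bot]; exact Nat.coprime_one_right _) hNn (by rw [hi1]; exact Nat.coprime_one_right _)
    exact h15 w (by rw [hw, hmo])

/-- `25 ∤ |M|` if `11 ∣ |M|` -/
theorem not_25 (h : Spor.IsoHS T) {M : Subgroup T} (hM : M ≠ ⊤) (h11 : 11 ∣ Nat.card M) : ¬ 5 ^ 2 ∣ Nat.card M := by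
  intro h25
  by_cases h7 : 7 ∣ Nat.card M
  · rw [(m22_of tab known h hM h11 h7).1] at h25
    norm_num at h25
  · rcases (no_seven tab known h hM h11 h7).2 with h1 | h1 | h1
    · exact absurd (h25.trans h1) (by norm_num)
    · rw [h1] at h25; norm_num at h25
    · rw [h1] at h25; norm_num at h25

/-- no elements of order 15 if `11 ∣ |M|` -/
theorem not_15 (h : Spor.IsoHS T) {M : Subgroup T} (hM : M ≠ ⊤) (h11 : 11 ∣ Nat.card M) : ∀ m ∈ M, orderOf m ≠ 15 := by
  by_cases h7 : 7 ∣ Nat.card M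
  · obtain ⟨-, h1⟩ := m22_of tab known h hM h11 h7
    intro m hm hmo
    exact no_m22 h1 (k := 3) (by norm_num) (⟨m, hm⟩ : M) (by rw [Subgroup.orderOf_mk, hmo])
  · exact (no_seven tab known h hM h11 h7).1

/-- the subgroups of order divisible by 7 and 25 -/
theorem not_15_of_seven (h : Spor.IsoHS T) {M : Subgroup T} (hM : M ≠ ⊤) (h7 : 7 ∣ Nat.card M)
    (h25 : 5 ^ 2 ∣ Nat.card M) : ∀ m ∈ M, orderOf m ≠ 15 := by
  have hfin := finite h
  have hc := Cfsg.Agent.KFacts.HS.card h
  have S : Cfsg.Agent.H966.Der.Sit T 44352000 l 7 M := ⟨tab, known, hc, valid_l, by norm_num, by norm_num, h7, hM⟩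
  obtain ⟨O, hO, N, hT⟩ := S.exists_top
  have hNn := hT.normal
  have hd := S.pow_dvd hT (s := 5) (by norm_num) (iso_7 h 5 (by norm_num) (by norm_num)) (by decide +kernel) h25
  have hna := Cfsg.Agent.H257.El.Sit.not_comm_of_dvd hT (s := 5) (by norm_num) (by norm_num)
    ((dvd_pow_self 5 (by norm_num)).trans hd)
  obtain ⟨g, hg, hr, hgc⟩ := S.exists_surv hT hna [25] (by simpa using hd)
  have hg' := mem_of_chkSurv (L := [.psu 3 5]) (by decide +kernel) hg
  rw [List.mem_singleton] at hg'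
  subst hg'
  have hgc' : Nat.card N = 126000 := by rw [hgc]; decide +kernel
  have hi := S.index_dvd hT (iso_7 h) (by rw [hgc']; norm_num)
  rw [hgc'] at hi
  norm_num at hi
  have hO3 : ¬ 3 ∣ Nat.card O := S.not_dvd_core hT (s := 3) (m := 352) (k := 0) (by norm_num) (by norm_num)
    (iso_7 h 3 (by norm_num) (by norm_num)) (by rw [hgc']) (by norm_num) (by decide)
  have hO5 : ¬ 5 ∣ Nat.card O := S.not_dvd_core hT (s := 5) (m := 352) (k := 0) (by norm_num) (by norm_num)
    (iso_7 h 5 (by norm_num) (by norm_num)) (by rw [hgc']) (by norm_num) (by decide)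
  have c3 : Nat.Coprime 3 (Nat.card O) := (Nat.Prime.coprime_iff_not_dvd (by norm_num)).2 hO3
  have c5 : Nat.Coprime 5 (Nat.card O) := (Nat.Prime.coprime_iff_not_dvd (by norm_num)).2 hO5
  have hi2 : N.index ∣ 2 := by
    have h1 : N.index * 3 ∣ 2 * 3 := hi
    exact Nat.dvd_of_mul_dvd_mul_right (by norm_num) h1
  intro m hm hmo
  obtain ⟨w, hw⟩ := Cfsg.Agent.H966.Der.Sit.exists_of_coprime hm (O := O) (N := N)
    (by rw [hmo, show 15 = 3 * 5 by norm_num]; exact c3.mul_left c5) hNn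
    (by rw [hmo]; exact Nat.Coprime.coprime_dvd_right hi2 (by norm_num))
  exact no_15_u35 hr w (by rw [hw, hmo])

end

/-- `M22` has no subgroup of order 7920 -/
theorem m22_no_7920 {S : Type*} [Group S] (h : Spor.IsoM22 S) (K : Subgroup S) : Nat.card K ≠ 7920 := by
  obtain ⟨e⟩ := h
  intro hK
  have hG0 : Nat.card Cfsg.Agent.SporadicStructure.M22Syl11.G0 = 443520 := by
    have h1 : Cfsg.Agent.SporadicStructure.M22Syl11.G0 = Spor.M22 := by
      ext g
      constructor
      · rintro ⟨h1, h2, h3⟩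
        exact ⟨⟨h1, h2⟩, h3⟩
      · rintro ⟨⟨h1, h2⟩, h3⟩
        exact ⟨h1, h2, h3⟩
    rw [h1]
    exact Cfsg.Agent.SporadicA.MathieuRecog.card_M22
  let f : S →* Equiv.Perm GolayPt := (Spor.M22).subtype.comp e.toMonoidHom
  have hf : Function.Injective f := (Spor.M22).subtype_injective.comp e.injective
  have hle : K.map f ≤ Cfsg.Agent.SporadicStructure.M22Syl11.G0 := by
    rintro _ ⟨k, -, rfl⟩
    obtain ⟨⟨h1, h2⟩, h3⟩ := (e k).2
    exact ⟨h1, h2, h3⟩
  have h2 := (Cfsg.Agent.SporadicStructure.M22NoIndex.card_ne hG0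
    (Cfsg.Agent.S1606.card_fixing_octad Cfsg.Agent.SporadicStructure.M22NoIndex.B_mem) _ hle).1
  rw [Subgroup.card_map_of_injective hf] at h2
  exact h2 hK

end Cfsg.Agent.H461.Cov.HS
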